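import Cfsg.Agent.H437.Tits.Cnt_m3
import Cfsg.Agent.H263.TW.Pol_m3
import Cfsg.Agent.H592.Tits.BS5_m3
import Cfsg.Agent.H353.TwoLong_m3
import Cfsg.Agent.SmallSimple.Embed
import Cfsg.Agent.S0035
import Cfsg.Prelude.Def_CaseTheorems
import Cfsg.Agent.H23.FreeAct
import Cfsg.Agent.PLocal.SubnormalCore
import Cfsg.Agent.Lib.Cores
import Cfsg.Agent.S0044
import Cfsg.Agent.S0205
import Cfsg.Agent.S0493
import Cfsg.Agent.H202.TwoTransAltC
import Cfsg.Agent.H508.AltFive
import Cfsg.Agent.H942.Imprim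
import Cfsg.Agent.H363.TwoPrimes
import Cfsg.Agent.H412.AltIndex
import Cfsg.Agent.H410.ASLie
import Cfsg.Agent.S0243
import Cfsg.Agent.S0249
import Mathlib
import Cfsg.Agent.H481.TBound
import Cfsg.Agent.S0713
import Cfsg.Agent.S0280
import Cfsg.Agent.S0813
import Cfsg.Agent.S0814
import Cfsg.Agent.S0815
import Cfsg.Agent.S1069
import Cfsg.Agent.S1163
import Cfsg.Agent.S2126
import Cfsg.Agent.S2127
import Cfsg.Agent.S0245
import Cfsg.Agent.S0246
import Cfsg.Agent.ClassicalGeometry.PSL2Basic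
import Cfsg.Agent.H163.PG.PslAut
import Cfsg.Agent.H163.PG.Few_m3
import Cfsg.Agent.H679.TwoPsl
import Cfsg.Agent.H499.TTSmall
import Cfsg.Agent.H499.TTSz_mg_m3
import Cfsg.Agent.H603.SporElim
import Cfsg.Agent.H489.OutSpor
import Cfsg.Agent.FastGrp
import Cfsg.Agent.Prune
set_option linter.all false

section
prune_inst 0x7ffdfef9bfb875deffff7e7ffefddffe39d4dfffffdff94bffecfbffafdfa30e2be5fbaf1de010ff0ed7e09630b87853fb7eeeffee6bdc7ffffd5ff45ffbee1ff7ffbd0151d698340f7c6fff9bf177ce7f3fffffffffffffffffffffffffffbeffffffffffff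

-- part: H523/KA/BRk
section
set_option linter.all false
open scoped Cfsg.Agent.FastGrp

/-!
# S3414, case (B), piece `StBRk` (helper523; proof by helper506)

`L y` not affine, `O_p (A y) ≠ 1`, `q b` a power of `p`.
-/

set_option autoImplicit false

namespace Cfsg.Agent.H523.KA.BRk

open Cfsg.Agent.H873.Tits Cfsg.Agent.H506.Tits Cfsg.Agent.H384.TwoTrans MulAction

universe u v

/-! ### the socle of a nonaffine 2-transitive group -/

/-- the socle of a non-affine 2-transitive group; it contains a nontrivial element with two fixed points -/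
theorem exists_soc {Ω : Type v} [Finite Ω] (L : Subgroup (Equiv.Perm Ω)) (h2 : TwoTr L) (h3 : 3 ≤ Nat.card Ω)
    (haff : ¬ Aff L) :
    ∃ T : Subgroup (Equiv.Perm Ω), T ≤ L ∧ (T.subgroupOf L).Normal ∧ IsSimpleGroup T ∧ ¬ IsMulCommutative T ∧
      (∀ N : Subgroup (Equiv.Perm Ω), N ≤ L → (N.subgroupOf L).Normal → N ≠ ⊥ → T ≤ N) ∧
      ∃ x z : Ω, x ≠ z ∧ ∃ σ ∈ T, σ ≠ 1 ∧ σ x = x ∧ σ z = z := by
  have h2' : IsMultiplyPretransitive L Ω 2 := by
    rw [is_two_pretransitive_iff]
    intro a b c d hab hcd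
    obtain ⟨g, hg, h1, h2⟩ := h2 a b c d hab hcd
    exact ⟨⟨g, hg⟩, h1, h2⟩
  rcases reduction h2' h3 with ⟨N, hN, hNb, hNc, -, hNt, hNs⟩ | ⟨T, A⟩
  · exfalso
    apply haff
    have hsub : (N.map L.subtype).subgroupOf L = N := by
      rw [Subgroup.subgroupOf, Subgroup.comap_map_eq_self_of_injective L.subtype_injective]
    refine ⟨N.map L.subtype, Subgroup.map_subtype_le N, by rw [hsub]; exact hN, ?_, ?_, ?_⟩
    · refine ⟨⟨?_⟩⟩
      rintro ⟨_, a, ha, rfl⟩ ⟨_, b, hb, rfl⟩
      apply Subtype.ext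
      have := congrArg (fun t : N => ((t : L) : Equiv.Perm Ω)) (hNc.is_comm.comm (⟨a, ha⟩ : N) ⟨b, hb⟩)
      exact this
    · refine ⟨fun x z => ?_⟩
      obtain ⟨n, hn, h⟩ := hNt x z
      exact ⟨⟨n, n, hn, rfl⟩, h⟩
    · intro a
      rw [eq_bot_iff]
      rintro ⟨_, n, hn, rfl⟩ h
      have h1 := hNs a n hn h
      rw [Subgroup.mem_bot]
      subst h1
      rfl
  · have hsub : (T.map L.subtype).subgroupOf L = T := by
      rw [Subgroup.subgroupOf, Subgroup.comap_map_eq_self_of_injective L.subtype_injective]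
    have hTs := A.simple
    have hTn := A.normal
    have htr := A.transitive
    have hnt := A.nontrivialΩ
    let eT : T ≃* T.map L.subtype := T.equivMapOfInjective L.subtype L.subtype_injective
    refine ⟨T.map L.subtype, Subgroup.map_subtype_le T, by rw [hsub]; exact A.normal, ?_, ?_, ?_, ?_⟩
    · have hT0 : Nontrivial T := hTs.toNontrivial
      have : Nontrivial (T.map L.subtype) := eT.injective.nontrivial
      exact IsSimpleGroup.isSimpleGroup_of_surjective (eT : T →* _) eT.surjective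
    · intro hc
      apply A.nonab
      refine ⟨⟨fun a b => eT.injective ?_⟩⟩
      rw [map_mul, map_mul]
      exact hc.is_comm.comm _ _
    · intro M hML hMn hMb
      have h1 : T ≤ M.subgroupOf L := by
        refine A.le_of_normal _ hMn ?_
        intro h
        apply hMb
        rw [Subgroup.subgroupOf_eq_bot] at h
        rw [← inf_eq_left.2 hML]
        exact h.eq_bot
      rintro _ ⟨t, ht, rfl⟩
      exact h1 ht
    · by_contra hno
      push Not at hno
      have hno' : ∀ x z : Ω, x ≠ z → ∀ t : T, t • x = x → t • z = z → t = 1 := by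
        intro x z hxz t hx hz
        by_contra ht
        refine hno x z hxz ((t : L) : Equiv.Perm Ω) ⟨t, t.2, rfl⟩ ?_ hx hz
        intro h
        exact ht (Subtype.ext (Subtype.ext h))
      by_cases hst : ∀ a : Ω, stabilizer T a = ⊥
      · exact A.nonab
          (Cfsg.Agent.PermutationGroups.TwoTransitiveNormal.regular_normal_elementary_abelian A.two' T hst).1
      · push Not at hst
        obtain ⟨a, ha⟩ := hst
        obtain ⟨b, hb⟩ := A.two_ne a
        have htop : stabilizer T a ≠ ⊤ := by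
          intro h
          obtain ⟨t, ht⟩ := exists_smul_eq T a b
          have h1 : t ∈ stabilizer T a := by rw [h]; trivial
          rw [mem_stabilizer_iff] at h1
          exact hb (ht.symm.trans h1)
        have hF : Cfsg.IsFrobeniusComplement (stabilizer T a) := by
          refine ⟨ha, htop, fun g hg => ?_⟩
          rw [eq_bot_iff]
          rintro x ⟨hx1, hx2⟩
          obtain ⟨y, hy, hy2⟩ := hx2
          rw [Subgroup.mem_bot]
          refine hno' a (g • a) (fun h => hg h.symm) x hx1 ?_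
          have h1 : x = g * y * g⁻¹ := by
            rw [← hy2]
            rfl
          have h2 : y • a = a := hy
          rw [h1, mul_smul, mul_smul, inv_smul_smul, h2]
        obtain ⟨N, -, hN, hNc⟩ := Cfsg.Agent.S0035.result _ hF
        rcases hTs.eq_bot_or_eq_top_of_normal N hN with rfl | rfl
        · exact htop (Subgroup.isComplement'_bot_left.1 hNc)
        · exact ha (Subgroup.isComplement'_top_left.1 hNc)

/-! ### the index -/

section

variable {G : Type u} [Group G] [Finite G] {V : Type v} [Finite V] [MulAction G V] {P : Pol G V}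

end

/-! ### numerics -/

end Cfsg.Agent.H523.KA.BRk
end

-- part: H506/Tits/AsmB
section
set_option linter.all false
open scoped Cfsg.Agent.FastGrp

/-!
# S3414, case (B): assembly (helper506)

`st_bfalse_of` : `StBFalse` from the pieces; `st_caseB_of`, `st_bpow_of`.
-/

set_option autoImplicit false

namespace Cfsg.Agent.H506.Tits

open Cfsg.Agent.H873.Tits Subgroup MulAction

universe u v

/-- S3354 in one universe -/
def StLA : Prop := ∀ {G Ω : Type v} [Group G] [Finite G] [MulAction G Ω] [FaithfulSMul G Ω] [Finite Ω],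
  3 ≤ Nat.card Ω → IsMultiplyPretransitive G Ω 2 → ∀ a : Ω,
  Cfsg.IsLocalSubgroup (stabilizer G a) ∨
    ∃ N : Subgroup (stabilizer G a), N.Normal ∧ IsSimpleGroup N ∧ ¬ IsMulCommutative N ∧
      Subgroup.centralizer (N : Set (stabilizer G a)) = ⊥

section

variable {Ω : Type v} {L : Subgroup (Equiv.Perm Ω)}

theorem two_pre (h : TwoTr L) : IsMultiplyPretransitive L Ω 2 := by
  rw [is_two_pretransitive_iff]
  intro a b c d hab hcd
  obtain ⟨g, hg, h1, h2⟩ := h a b c d hab hcd
  exact ⟨⟨g, hg⟩, h1, h2⟩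

/-- the stabilizer as a subgroup of `Perm Ω` -/
theorem map_stab (a : Ω) : (stabilizer L a).map L.subtype = Stb L a := by
  ext σ
  constructor
  · rintro ⟨⟨τ, hτ⟩, h, rfl⟩
    exact ⟨hτ, h⟩
  · rintro ⟨h1, h2⟩
    exact ⟨⟨σ, h1⟩, h2, rfl⟩

theorem local_or (h3354 : StLA.{v}) [Finite Ω] (h3 : 3 ≤ Nat.card Ω) (h2 : TwoTr L) (a : Ω) :
    (∃ (p : ℕ) (Q : Subgroup (Equiv.Perm Ω)), p.Prime ∧ IsPGroup p Q ∧ Q ≠ ⊥ ∧ Q ≤ Stb L a ∧ (Q.subgroupOf (Stb L a)).Normal) ∨
    ∃ N : Subgroup (Equiv.Perm Ω), N ≤ Stb L a ∧ (N.subgroupOf (Stb L a)).Normal ∧ IsSimpleGroup N ∧ ¬ IsMulCommutative N ∧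
      Subgroup.centralizer (N : Set (Equiv.Perm Ω)) ⊓ Stb L a = ⊥ := by
  have hinj := L.subtype_injective
  rcases h3354 (G := L) (Ω := Ω) h3 (two_pre h2) a with ⟨p, T, hp, hT, hT1, hTn⟩ | ⟨N, hN, hNs, hNc, hNC⟩
  · left
    refine ⟨p, T.map L.subtype, hp, hT.map _, ?_, ?_, ?_⟩
    · intro h
      exact hT1 ((Subgroup.map_eq_bot_iff_of_injective _ hinj).1 h)
    · rw [← map_stab, hTn]
      exact Subgroup.map_mono le_normalizer
    · constructor
      rintro ⟨σ, hσ⟩ hσ' ⟨τ, hτ⟩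
      rw [mem_subgroupOf] at hσ' ⊢
      obtain ⟨s, hs, hse⟩ := hσ'
      have hτ' : (⟨τ, hτ.1⟩ : L) ∈ normalizer (T : Set L) := by
        rw [← hTn]; exact hτ.2
      refine ⟨(⟨τ, hτ.1⟩ * s * ⟨τ, hτ.1⟩⁻¹ :), (mem_normalizer_iff.1 hτ' s).1 hs, ?_⟩
      simp only [map_mul, map_inv]
      rw [hse]
      rfl
  · right
    let j : stabilizer L a →* Equiv.Perm Ω := L.subtype.comp (stabilizer L a).subtype
    have hj : Function.Injective j := hinj.comp (stabilizer L a).subtype_injective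
    have hjm : ∀ {τ : Equiv.Perm Ω} (hτ : τ ∈ Stb L a), ∃ s : stabilizer L a, j s = τ :=
      fun hτ => ⟨⟨⟨_, hτ.1⟩, hτ.2⟩, rfl⟩
    let e : N ≃* N.map j := N.equivMapOfInjective j hj
    refine ⟨N.map j, ?_, ?_, ?_, ?_, ?_⟩
    · rintro _ ⟨s, -, rfl⟩
      exact ⟨s.1.2, s.2⟩
    · constructor
      rintro ⟨σ, hσ⟩ hσ' ⟨τ, hτ⟩
      rw [mem_subgroupOf] at hσ' ⊢
      obtain ⟨s, hs, hse⟩ := hσ'
      obtain ⟨t, ht⟩ := hjm hτ
      refine ⟨t * s * t⁻¹, hN.conj_mem s hs t, ?_⟩
      rw [map_mul, map_mul, map_inv, hse, ht]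
      rfl
    · exact (MulEquiv.isSimpleGroup_congr e).1 hNs
    · intro h
      apply hNc
      exact ⟨⟨fun x y => e.injective (by rw [map_mul, map_mul, h.is_comm.comm])⟩⟩
    · rw [eq_bot_iff]
      rintro σ ⟨h1, h2⟩
      obtain ⟨s, rfl⟩ := hjm h2
      rw [mem_bot]
      have h3 : s ∈ Subgroup.centralizer (N : Set (stabilizer L a)) := by
        rw [mem_centralizer_iff]
        intro t ht
        apply hj
        rw [map_mul, map_mul]
        exact mem_centralizer_iff.1 h1 _ ⟨t, ht, rfl⟩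
      rw [hNC, mem_bot] at h3
      rw [h3, map_one]

end

/-- **case (B) is impossible** -/
theorem st_bfalse_of (h0 : StB0.{u, v}) (hA : StBAff.{u, v}) (hE : StBE1.{u, v}) (hS : StBAS.{u, v}) (hP : StBPSL.{u, v})
    (hR : StBRk.{u, v}) (h1a : StTab1a.{v}) (h3354 : StLA.{v}) : StBFalse.{u, v} := by
  intro G _ _ V _ _ P F N b hB
  -- a vertex of type `b`
  obtain ⟨y, hy⟩ : ∃ y : V, P.tp y = b := by
    obtain ⟨v⟩ := P.nonempty
    obtain ⟨w, hvw, -⟩ := exists_other (P := P) (x := v) (y := v)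
    by_cases hv : P.tp v = b
    · exact ⟨v, hv⟩
    · refine ⟨w, ?_⟩
      rw [P.tp_adj hvw]
      cases h1 : P.tp v <;> cases b <;> simp_all
  obtain ⟨x, hyx, -⟩ := exists_other (P := P) (x := y) (y := y)
  obtain ⟨z, hyz, hxz⟩ := exists_other (P := P) (x := y) (y := x)
  have hxy := P.symm hyx
  by_cases hK : P.K x ≤ P.K y
  · exact h0 P F N hB hxy hy hK
  by_cases hAf : Aff (P.L y)
  · exact hA P F N hB hxy hy hK hAf
  by_cases hE1 : P.K x ⊓ P.K y = ⊥
  · exact hE P F N hB hxy hy hK hAf hE1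
  have hcard : Nat.card {w : V // P.adj y w} = P.q b + 1 := by rw [P.card_nb, hy]
  have h2 := P.two_le b
  rcases local_or h3354 (by omega) (twoTr_L F y) ⟨x, hyx⟩ with ⟨p, Q, hp, hQp, hQ1, hQ, hQn⟩ | ⟨M, h1, h2, h3, h4, h5⟩
  · have hLQ : LQ (P.L y) (P.q b) p ⟨x, hyx⟩ ⟨z, hyz⟩ Q :=
      ⟨twoTr_L F y, hcard, h2, hp, fun h => hxz (congrArg Subtype.val h), hQ1, hQ, hQn, hQp⟩
    rcases h1a (P.L y) _ _ _ _ _ hLQ hAf with h | ⟨d, f, h⟩
    · exact hR P F N hB hy hAf hLQ h
    · exact hP P F N hB hxy hy hK hAf hE1 h hLQ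
  · exact hS P F N hB hyx hy hK hAf hE1 M h1 h2 h3 h4 h5

end Cfsg.Agent.H506.Tits
end

-- part: H592/Tits/BS5_mg
section

end

-- part: H115/Tits/BE1Main_mg
section
prune_inst 0x800000000000000000000000000000002000000000000000000100000000000c0000000000000000000000000000000000000000000000000000000000c00002000000000000000000000000000000000000000000000000000000000000000
set_option linter.all false
open scoped Cfsg.Agent.FastGrp

-- part: H523/KA/Uni
section
/-!
# S3414, case (B), pieces `StUni` and `StKF` (helper523)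
-/

set_option autoImplicit false

namespace Cfsg.Agent.H523.KA.Uni

open Cfsg.Agent.H873.Tits Cfsg.Agent.H115.Tits Cfsg.Agent.H523.KA.BRk MulAction

universe u v

/-- **`StKF`** -/
theorem st_kf : StKF.{v} := by
  intro Ω _ L X h2 h3 hXL hXn hXb hX
  by_contra haff
  obtain ⟨T, -, -, -, -, hTmin, x, z, hxz, σ, hσ, hσ1, hσx, hσz⟩ := exists_soc L h2 h3 haff
  exact hσ1 (hX x z hxz σ (hTmin X hXL hXn hXb hσ) hσx hσz)

end Cfsg.Agent.H523.KA.Uni
end

-- part: H115/Tits/BPsl
section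
/-!
# S3414, case (B): the groups of type `PSL_d`, `d ≥ 3` (helper115)

* `kill_kf` : `L' y` does not contain a non-trivial normal subgroup of `L y` if `L y` is not affine;
* `psl_sq` : `t ∤ T_y` for `L y` of type `PSL_d`;
* `st_bpsl : StPslSemi → StPslNum → StPslSub → StBPSL`.
-/

set_option autoImplicit false
set_option linter.unusedSectionVars false

namespace Cfsg.Agent.H115.Tits

open Cfsg.Agent.H873.Tits Cfsg.Agent.H506.Tits Subgroup MulAction

universe u v

variable {G : Type u} [Group G] [Finite G] {V : Type v} [Finite V] [MulAction G V] {P : Pol G V} {b : Bool}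

theorem three_le_nb (P : Pol G V) (y : V) : 3 ≤ Nat.card {w : V // P.adj y w} := by
  have h1 := P.card_nb y
  have h2 := P.two_le (P.tp y)
  omega

/-- `L' y` does not contain a non-trivial normal subgroup of `L y` if `L y` is not affine -/
theorem kill_kf (F : Facts P) (hB : CaseB P b) {y y' : V} (hy : P.tp y = b) (hopp : P.Opp y y') (hna : ¬ Aff (P.L y))
    (X : Subgroup (Equiv.Perm {w : V // P.adj y w})) (hX : X ≤ P.L' y y') (hn : (X.subgroupOf (P.L y)).Normal)
    (hX1 : X ≠ ⊥) : False :=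
  hna (Cfsg.Agent.H523.KA.Uni.st_kf (P.L y) X (twoTr_L F y) (three_le_nb P y) (hX.trans (L'_le P y y')) hn hX1
    fun _ _ hac _ hσ h1 h2 => kill F hB hy hopp X hX hn hac hσ h1 h2)

/-- PSL-SUB in the exceptional cases of PSL-NUM: the 2-transitive subgroups contain the socle -/
def StPslSub3 : Prop := ∀ {Ω : Type v} [Finite Ω] (L L' : Subgroup (Equiv.Perm Ω)) (p d f : ℕ), TwoTr L → TwoTr L' → L' ≤ L →
  PSLType L p d f → ((d = 3 ∧ f = 1 ∧ ∃ k, p + 1 = 2 ^ k) ∨ (d = 3 ∧ f = 3 ∧ p = 2) ∨ (d = 7 ∧ f = 1 ∧ p = 2)) →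
  ∃ X : Subgroup (Equiv.Perm Ω), X ≠ ⊥ ∧ X ≤ L' ∧ (X.subgroupOf L).Normal

/-- the exceptional groups of type `PSL_d` -/
theorem psl_exc (hSub : StPslSub3.{v}) (F : Facts P) (hB : CaseB P b) {y : V} (hy : P.tp y = b) (hna : ¬ Aff (P.L y))
    {p d f : ℕ} (h : PSLType (P.L y) p d f)
    (h1 : (d = 3 ∧ f = 1 ∧ ∃ k, p + 1 = 2 ^ k) ∨ (d = 3 ∧ f = 3 ∧ p = 2) ∨ (d = 7 ∧ f = 1 ∧ p = 2)) : False := by
  obtain ⟨y', hopp⟩ := F.exists_opp y
  obtain ⟨X, hX1, hX, hn⟩ := hSub (P.L y) (P.L' y y') p d f (twoTr_L F y) (twoTr_L' F hopp) (L'_le P y y') h h1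
  exact kill_kf F hB hy hopp hna X hX hn hX1

/-- `t ∤ T_y` for `L y` of type `PSL_d`, `d ≥ 3` -/
theorem psl_sq (hNum : StPslNum.{v}) (hSub : StPslSub3.{v}) (F : Facts P) (hB : CaseB P b) {x y z : V} (hy : P.tp y = b)
    (hx : P.adj y x) (hz : P.adj y z) (hxz : x ≠ z) (hna : ¬ Aff (P.L y)) (hT : P.q b ∣ P.T2 y x z) {p d f : ℕ}
    (h : PSLType (P.L y) p d f) : False := by
  rcases hNum (P.L y) p d f ⟨x, hx⟩ ⟨z, hz⟩ (twoTr_L F y) (fun h => hxz (congrArg Subtype.val h)) h with
    ⟨r, hr, hrp, h1, h2⟩ | h1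
  · apply h2
    rw [← T2_eq hx hz]
    refine Dvd.dvd.trans ?_ hT
    rwa [P.card_nb, hy, Nat.add_sub_cancel] at h1
  · exact psl_exc hSub F hB hy hna h h1

/-- **`StBPSL`** -/
theorem st_bpsl (hSemi : StPslSemi.{v}) (hNum : StPslNum.{v}) (hSub : StPslSub3.{v}) : StBPSL.{u, v} := by
  intro G _ _ V _ _ P F N b hB x y hxy hy hne hna hE p d f h a c Q hLQ
  obtain ⟨z, hyz, hxz⟩ := exists_other (P := P) (x := y) (y := x)
  have hyx := P.symm hxy
  rcases hNum (P.L y) p d f ⟨x, hyx⟩ ⟨z, hyz⟩ (twoTr_L F y) (fun h => hxz (congrArg Subtype.val h)) h with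
    ⟨r, hr, hrp, h1, h2⟩ | h1
  · rw [← T2_eq hyx hyz] at h2
    rw [P.card_nb, hy, Nat.add_sub_cancel] at h1
    obtain ⟨-, -, M, hM, hMs, hMr, hMc⟩ := Cfsg.Agent.H263.TW.chain F hB hr hyx hyz hxz hy h2
    have h3 := hSemi (P.L y) p d f (twoTr_L F y) h ⟨x, hyx⟩ M hM hMs hMr
    have h4 : r ∣ Nat.card M := by
      have h5 : (Nat.card M).factorization r ≠ 0 := by
        rw [hMc]
        have h6 : P.q b ≠ 0 := by have := P.two_le b; omega
        have := (hr.dvd_iff_one_le_factorization h6).1 h1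
        omega
      exact Nat.dvd_of_factorization_pos h5
    have := Fact.mk hr
    obtain ⟨g, hg⟩ := exists_prime_orderOf_dvd_card' r h4
    obtain ⟨k, hk⟩ := h3 g
    have h5 := orderOf_dvd_of_pow_eq_one hk
    rw [hg] at h5
    exact hrp ((Nat.prime_dvd_prime_iff_eq hr h.2.2.1).1 (hr.dvd_of_dvd_pow h5))
  · exact psl_exc hSub F hB hy hna h h1

end Cfsg.Agent.H115.Tits
end

-- part: H115/Tits/AltE1
section
/-!
# S3414, case (B), `E = 1` : the alternating groups (helper115)
-/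

set_option autoImplicit false
set_option linter.unusedSectionVars false

namespace Cfsg.Agent.H115.Tits

open Cfsg.Agent.H873.Tits Cfsg.Agent.H506.Tits Subgroup MulAction

universe u v

/-! ### arithmetic -/

theorem exists_prime_mid3 {n : ℕ} (hn : 8 ≤ n) : ∃ r : ℕ, r.Prime ∧ n < 2 * r ∧ r + 3 ≤ n := by
  rcases Nat.lt_or_ge n 12 with h | h
  · have : n = 8 ∨ n = 9 ∨ n = 10 ∨ n = 11 := by omega
    rcases this with rfl | rfl | rfl | rfl
    · exact ⟨5, by norm_num, by norm_num, by norm_num⟩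
    · exact ⟨5, by norm_num, by norm_num, by norm_num⟩
    · exact ⟨7, by norm_num, by norm_num, by norm_num⟩
    · exact ⟨7, by norm_num, by norm_num, by norm_num⟩
  · obtain ⟨r, s, hr, hs, h1, h2, h3⟩ := Cfsg.Agent.H363.TwoPrimes.exists_two_primes (n / 2) (by omega)
    have hs2 : s % 2 = 1 := hs.eq_two_or_odd.resolve_left (by omega)
    have hr2 : r % 2 = 1 := hr.eq_two_or_odd.resolve_left (by omega)
    exact ⟨r, hr, by omega, by omega⟩

theorem sq_not_dvd_factorial {r : ℕ} (hr : r.Prime) : ∀ {n : ℕ}, n < 2 * r → ¬ r ^ 2 ∣ n.factorial := by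
  intro n
  induction n with
  | zero =>
    intro _ h
    rw [Nat.factorial_zero, Nat.dvd_one] at h
    have := hr.two_le
    nlinarith
  | succ n ih =>
    intro hn h
    rw [Nat.factorial_succ] at h
    by_cases h1 : r ∣ n + 1
    · obtain ⟨k, hk⟩ := h1
      have h2 : k = 1 := by
        have h3 : k ≠ 0 := by
          rintro rfl
          omega
        have h4 : k < 2 := by
          by_contra h5
          have : r * 2 ≤ r * k := Nat.mul_le_mul_left r (by omega)
          omega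
        omega
      rw [h2, mul_one] at hk
      rw [hk, pow_two] at h
      have h3 : r ∣ n.factorial := Nat.dvd_of_mul_dvd_mul_left hr.pos h
      rw [hr.dvd_factorial] at h3
      omega
    · have h2 : (r ^ 2).Coprime (n + 1) := Nat.Coprime.pow_left 2 ((Nat.Prime.coprime_iff_not_dvd hr).2 h1)
      exact ih (by omega) (h2.dvd_of_dvd_mul_left h)

theorem alt_le_of {Ω : Type v} [Fintype Ω] [DecidableEq Ω] {L : Subgroup (Equiv.Perm Ω)} (h : AltLe L) :
    alternatingGroup Ω ≤ L := by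
  apply Cfsg.Agent.H942.alt_le_of_T
  intro x y z hxy hxz hyz
  refine ⟨hxy, hxz, hyz, ?_⟩
  have := h x y z hxy hyz hxz
  unfold Cfsg.Agent.H942.c3
  convert this

theorem two_mul_card_alt {Ω : Type v} [Fintype Ω] [DecidableEq Ω] (h : 2 ≤ Fintype.card Ω) :
    2 * Nat.card (alternatingGroup Ω) = (Fintype.card Ω).factorial := by
  have : Nontrivial Ω := Fintype.one_lt_card_iff_nontrivial.1 (by omega)
  rw [two_mul_nat_card_alternatingGroup, Nat.card_perm, Nat.card_eq_fintype_card]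

theorem dvd_card_alt {Ω : Type v} [Fintype Ω] [DecidableEq Ω] {r : ℕ} (hr : r.Prime) (h3 : 3 ≤ r)
    (h : r ≤ Fintype.card Ω) : r ∣ Nat.card (alternatingGroup Ω) := by
  have h1 : r ∣ 2 * Nat.card (alternatingGroup Ω) := by
    rw [two_mul_card_alt (by omega)]
    exact (hr.dvd_factorial).2 h
  rcases hr.dvd_mul.1 h1 with h2 | h2
  · have := Nat.le_of_dvd (by norm_num) h2
    omega
  · exact h2

/-! ### the order of the two point stabilizer -/

variable {G : Type u} [Group G] [Finite G] {V : Type v} [Finite V] [MulAction G V] {P : Pol G V} {b : Bool}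

theorem T2_dvd_factorial {v x z : V} (hx : P.adj v x) (hz : P.adj v z) (hxz : x ≠ z) :
    P.T2 v x z ∣ (P.q (P.tp v) - 1).factorial := by
  classical
  have hfin := Cfsg.Agent.H263.TW.finite_nb P v
  let x' : {w : V // P.adj v w} := ⟨x, hx⟩
  let z' : {w : V // P.adj v w} := ⟨z, hz⟩
  have h1 : Nat.card (fixingSubgroup (Equiv.Perm {w : V // P.adj v w}) ({x', z'} : Set {w : V // P.adj v w})) =
      (P.q (P.tp v) - 1).factorial := by
    have := Fintype.ofFinite {w : V // P.adj v w}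
    rw [Cfsg.Agent.S0713.card_fixingSubgroup_perm, P.card_nb, Set.ncard_pair (fun h => hxz (congrArg Subtype.val h))]
    rfl
  rw [← h1]
  apply Subgroup.card_dvd_of_le
  intro σ hσ
  obtain ⟨g, hg, hg', rfl⟩ := mem_img.1 hσ
  rw [mem_fixingSubgroup_iff]
  rintro w (rfl | rfl)
  · exact Subtype.ext hg.1
  · exact Subtype.ext hg.2

/-- a prime `r` with `n/2 < r ≤ n - 3` divides the index `i_y` for `L y ≥ Alt_n` -/
theorem dvd_idx (F : Facts P) (hB : CaseB P b) {y y' : V} (hy : P.tp y = b) (hopp : P.Opp y y') (hna : ¬ Aff (P.L y))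
    (hA : AltLe (P.L y)) {r : ℕ} (hr : r.Prime) (h1 : P.q b + 1 < 2 * r) (h2 : r + 3 ≤ P.q b + 1) :
    r ∣ P.idx y y' := by
  classical
  have hfin := Cfsg.Agent.H263.TW.finite_nb P y
  have := Fintype.ofFinite {w : V // P.adj y w}
  have hcard : Fintype.card {w : V // P.adj y w} = P.q b + 1 := by rw [← Nat.card_eq_fintype_card, P.card_nb, hy]
  have hr2 := hr.two_le
  have hAle := alt_le_of hA
  -- `r ∤ |L'|`
  have h3 : ¬ r ∣ Nat.card (P.L' y y') := by
    intro h3
    have h4 : IsPreprimitive (P.L' y y') {w : V // P.adj y w} := by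
      apply isPreprimitive_of_is_two_pretransitive
      rw [is_two_pretransitive_iff]
      intro a b c d hab hcd
      obtain ⟨g, hg, h1, h2⟩ := twoTr_L' F hopp a b c d hab hcd
      exact ⟨⟨g, hg⟩, h1, h2⟩
    have h5 := Cfsg.Agent.H202.TwoTransAlt.alt_le_of_dvd hr (by rw [hcard]; exact h1) (by rw [hcard]; omega)
      (by rw [hcard]; exact h2) (P.L' y y') h4 h3
    refine kill_kf F hB hy hopp hna _ h5 ?_ ?_
    · have : (alternatingGroup {w : V // P.adj y w}).Normal := inferInstance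
      exact this.subgroupOf _
    · intro h6
      have h7 := dvd_card_alt (Ω := {w : V // P.adj y w}) hr (by omega) (by rw [hcard]; omega)
      rw [h6, Subgroup.card_bot, Nat.dvd_one] at h7
      omega
  -- `r ∣ |L|`
  have h4 : r ∣ Nat.card (P.L y) :=
    (dvd_card_alt (Ω := {w : V // P.adj y w}) hr (by omega) (by rw [hcard]; omega)).trans (Subgroup.card_dvd_of_le hAle)
  have h5 : Nat.card (P.L' y y') * P.idx y y' = Nat.card (P.L y) := by
    have h6 := Subgroup.card_mul_index ((P.L' y y').subgroupOf (P.L y))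
    rw [Nat.card_congr (Subgroup.subgroupOfEquivOfLe (L'_le P y y')).toEquiv] at h6
    exact h6
  rw [← h5] at h4
  exact (hr.dvd_mul.1 h4).resolve_left h3

end Cfsg.Agent.H115.Tits
end

-- part: H115/Tits/B0
section
/-!
# S3414, case (B): the piece `StB0`, `K x ≤ K y` (helper115)
-/

set_option autoImplicit false
set_option linter.unusedSectionVars false

namespace Cfsg.Agent.H115.Tits

open Cfsg.Agent.H873.Tits Cfsg.Agent.H506.Tits Subgroup MulAction

universe u v

variable {G : Type u} [Group G] [Finite G] {V : Type v} [Finite V] [MulAction G V] {P : Pol G V} {b : Bool}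

/-- if `K x = 1` then `L x` is not affine -/
theorem not_aff_of_K (F : Facts P) {x : V} (hK : P.K x = ⊥) : ¬ Aff (P.L x) := by
  rintro ⟨W, hWL, hWn, -, hWt, hWs⟩
  have h := no_sharp F (y := x) (pre P x W) (pre_le W) (fun g hg a ha => pre_conj hWL hWn hg ha) (by
    rintro v hv g ⟨hg, hgv⟩
    obtain ⟨hgx, hgW⟩ := mem_pre.1 hg
    have h1 := hWs ⟨v, hv⟩
    have h2 : (⟨P.toPerm x ⟨g, hgx⟩, hgW⟩ : W) ∈ stabilizer W (⟨v, hv⟩ : {w : V // P.adj x w}) := by
      rw [mem_stabilizer_iff]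
      exact Subtype.ext hgv
    rw [h1, mem_bot] at h2
    have h3 : P.toPerm x ⟨g, hgx⟩ = P.toPerm x 1 := by
      rw [map_one]
      exact congrArg Subtype.val h2
    rw [toPerm_eq_iff, OneMemClass.coe_one, inv_one, mul_one, hK, mem_bot] at h3
    have h4 : g = 1 := h3
    rw [h4]
    exact one_mem _)
  obtain ⟨a, ha, -⟩ := exists_other (P := P) (x := x) (y := x)
  obtain ⟨c, hc, hac⟩ := exists_other (P := P) (x := x) (y := a)
  obtain ⟨⟨w, hw⟩, hwa⟩ := hWt.exists_smul_eq (⟨a, ha⟩ : {w : V // P.adj x w}) ⟨c, hc⟩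
  obtain ⟨g, hg, hgw⟩ := mem_L.1 (hWL hw)
  have h1 : g ∈ pre P x W := mem_pre.2 ⟨hg, by rw [hgw]; exact hw⟩
  have h2 := h h1
  rw [hK, mem_bot] at h2
  subst h2
  have h3 : w = 1 := by
    rw [← hgw]
    exact map_one (P.toPerm x)
  subst h3
  exact hac (congrArg Subtype.val hwa)

/-- if `K x = 1` then case (B) holds for the type of `x` -/
theorem caseB_of_K {x : V} (hK : P.K x = ⊥) : CaseB P (P.tp x) := by
  have h1 : ∀ v, P.tp v = P.tp x → P.K v = ⊥ := by
    intro v hv
    obtain ⟨g, hg⟩ := P.trans (k := 0) (p := fun _ => x) (p' := fun _ => v) (by omega) ⟨fun i hi => by omega, fun i hi => by omega⟩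
      ⟨fun i hi => by omega, fun i hi => by omega⟩ hv.symm
    have h2 : g • x = v := hg 0 le_rfl
    rw [← h2, Cfsg.Agent.H263.TW.K_smul, hK, Subgroup.map_bot]
  constructor
  · intro u v w hv huv hwv
    rw [h1 v hv, inf_bot_eq]
    exact bot_le
  · intro u v w hw hvw hu hne
    rw [h1 w hw, bot_inf_eq]
    exact bot_le

theorem num_b0 {n s t : ℕ} (hn : n = 4 ∨ n = 6 ∨ n = 8) (hs : 2 ≤ s) (ht : 2 ≤ t) (h48 : n = 4 → s ≤ t ^ 2)
    (h : s ^ (n / 2 - 1) * t ^ (n / 2) ∣ (s - 1).factorial) : 8 ≤ s := by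
  by_contra hlt
  have hs' : s ∣ (s - 1).factorial := by
    refine Dvd.dvd.trans ?_ h
    refine Dvd.dvd.mul_right (dvd_pow_self s ?_) _
    (clear * - hn; omega)
  have h6 : s = 6 := by
    have : s ≤ 7 := by omega
    interval_cases s <;> revert hs' <;> decide
  subst h6
  have hf : (6 - 1).factorial = 120 := rfl
  rw [hf] at h
  rcases hn with rfl | rfl | rfl
  · have h1 : 6 ≤ t ^ 2 := h48 rfl
    have h2 := Nat.le_of_dvd (by norm_num) h
    norm_num only [] at h h2
    have h3 : t ≤ 4 := by nlinarith only [h2]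
    interval_cases t
    · norm_num at h1
    · norm_num at h
    · norm_num at h
  · have h2 : 6 ^ 2 ∣ 120 := (Dvd.intro _ rfl).trans h
    revert h2; decide
  · have h2 : 6 ^ 3 ∣ 120 := (Dvd.intro _ rfl).trans h
    revert h2; decide

/-- **`StB0`** -/
theorem st_b0 (hTab : StTabSq.{v}) (hNum : StPslNum.{v}) (hSub : StPslSub3.{v}) : StB0.{u, v} := by
  intro G _ _ V _ _ P F N b hB x y hxy hy hle
  have hK := (Cfsg.Agent.H263.TW.K_eq_bot_of_le F hB hxy hy hle).1
  have hBx := caseB_of_K hK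
  have hna := not_aff_of_K F hK
  obtain ⟨x', hopp⟩ := F.exists_opp x
  obtain ⟨w, hxw, -⟩ := exists_other (P := P) (x := x) (y := x)
  obtain ⟨z, hxz, hwz⟩ := exists_other (P := P) (x := x) (y := w)
  have hn := P.hn
  -- the index
  have hidx : P.idx x x' = P.q (P.tp x) ^ (P.n / 2 - 1) * P.q (!P.tp x) ^ (P.n / 2) := by
    have h1 := F.count_opp hopp
    rw [hK, bot_inf_eq, Subgroup.card_bot, mul_one, mul_one] at h1
    exact h1
  have hdvd := idx_dvd_T2 F hopp hxw hxz hwz
  have hs := P.two_le (P.tp x)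
  have ht := P.two_le (!P.tp x)
  have hsT : P.q (P.tp x) ∣ P.T2 x w z := by
    refine Dvd.dvd.trans ?_ hdvd
    rw [hidx]
    exact Dvd.dvd.mul_right (dvd_pow_self _ (by omega)) _
  have hfac := T2_dvd_factorial hxw hxz hwz
  rcases hTab (P.L x) ⟨w, hxw⟩ ⟨z, hxz⟩ (twoTr_L F x) (three_le_nb P x) (fun h => hwz (congrArg Subtype.val h)) hna (by
    rw [P.card_nb, Nat.add_sub_cancel, ← T2_eq hxw hxz]
    exact hsT) with hA | ⟨p, d, f, h⟩
  · have h8 : 8 ≤ P.q (P.tp x) := by
      refine num_b0 hn hs ht (fun h => N.hig48 (Or.inl h) _) ?_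
      rw [← hidx]
      exact hdvd.trans hfac
    obtain ⟨r, hr, h1, h2⟩ := exists_prime_mid3 (n := P.q (P.tp x) + 1) (by omega)
    have h3 := dvd_idx F hBx rfl hopp hna hA hr h1 h2
    rw [hidx] at h3
    have h4 : r ∣ P.q (!P.tp x) := by
      rcases hr.dvd_mul.1 h3 with h4 | h4
      · exfalso
        obtain ⟨k, hk⟩ := hr.dvd_of_dvd_pow h4
        have h5 : k < 2 := by
          by_contra h5
          have : r * 2 ≤ r * k := Nat.mul_le_mul_left r (by omega)
          omega
        interval_cases k <;> omega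
      · exact hr.dvd_of_dvd_pow h4
    have h5 : r ^ 2 ∣ (P.q (P.tp x) - 1).factorial := by
      refine Dvd.dvd.trans ?_ hfac
      refine Dvd.dvd.trans ?_ hdvd
      rw [hidx]
      refine Dvd.dvd.mul_left ?_ _
      exact (pow_dvd_pow_of_dvd h4 2).trans (pow_dvd_pow _ (by omega))
    exact sq_not_dvd_factorial hr (by omega) h5
  · exact psl_sq hNum hSub F hBx rfl hxw hxz hwz hna hsT h

end Cfsg.Agent.H115.Tits
end

-- part: H115/Tits/BE1
section
/-!
# S3414, case (B): the piece `StBE1`, `E = 1` (helper115)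
-/

set_option autoImplicit false
set_option linter.unusedSectionVars false

namespace Cfsg.Agent.H115.Tits

open Cfsg.Agent.H873.Tits Cfsg.Agent.H506.Tits Subgroup MulAction

universe u v

variable {G : Type u} [Group G] {V : Type v} [MulAction G V] {P : Pol G V} {b : Bool}

/-! ### the action on the neighbours of `y` other than `x` -/

/-- the neighbours of `y` other than `x` -/
abbrev NX (P : Pol G V) (y x : V) : Type v := {w : V // P.adj y w ∧ w ≠ x}

/-- the action of `R ≤ S x ⊓ S y` on the neighbours of `y` other than `x` -/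
def rho (P : Pol G V) (y x : V) (R : Subgroup G) (hy : ∀ g ∈ R, g • y = y) (hx : ∀ g ∈ R, g • x = x) :
    R →* Equiv.Perm (NX P y x) where
  toFun g :=
    { toFun := fun w => ⟨(g : G) • w.1, adj_smul_of_fix P (hy g g.2) w.2.1, fun h =>
        w.2.2 ((smul_left_cancel_iff (g : G)).1 (h.trans (hx g g.2).symm))⟩
      invFun := fun w => ⟨(g : G)⁻¹ • w.1, adj_smul_of_fix P (inv_fix (hy g g.2)) w.2.1, fun h =>
        w.2.2 ((smul_left_cancel_iff (g : G)⁻¹).1 (h.trans (inv_fix (hx g g.2)).symm))⟩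
      left_inv := fun w => Subtype.ext (inv_smul_smul _ _)
      right_inv := fun w => Subtype.ext (smul_inv_smul _ _) }
  map_one' := by
    ext w
    exact one_smul _ _
  map_mul' g h := by
    ext w
    exact mul_smul _ _ _

/-- the kernel -/
theorem mem_ker_rho {y x : V} {R : Subgroup G} {hy : ∀ g ∈ R, g • y = y} {hx : ∀ g ∈ R, g • x = x} {g : R} :
    g ∈ (rho P y x R hy hx).ker ↔ (g : G) ∈ P.K y := by
  rw [MonoidHom.mem_ker]
  constructor
  · intro h
    refine ⟨hy g g.2, fun w hw => ?_⟩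
    by_cases hwx : w = x
    · rw [hwx]
      exact hx g g.2
    · exact congrArg (fun σ : Equiv.Perm (NX P y x) => ((σ ⟨w, hw, hwx⟩ : NX P y x) : V)) h
  · intro h
    ext ⟨w, hw⟩
    exact h.2 w hw.1

theorem card_NX [Finite V] {y x : V} (hx : P.adj y x) : Nat.card (NX P y x) = P.q (P.tp y) := by
  classical
  have := Fintype.ofFinite V
  have h1 := P.card_nb y
  have h2 : Nat.card (NX P y x) = Nat.card {w : {w : V // P.adj y w} // w ≠ ⟨x, hx⟩} :=
    Nat.card_congr
      { toFun := fun w => ⟨⟨w.1, w.2.1⟩, fun h => w.2.2 (congrArg Subtype.val h)⟩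
        invFun := fun w => ⟨w.1.1, w.1.2, fun h => w.2 (Subtype.ext h)⟩
        left_inv := fun w => rfl
        right_inv := fun w => rfl }
  rw [h2, Nat.card_eq_fintype_card, Fintype.card_subtype_compl, Fintype.card_subtype_eq, ← Nat.card_eq_fintype_card, h1,
    Nat.add_sub_cancel]

theorem altLe_mem {Ω : Type v} [DecidableEq Ω] {L : Subgroup (Equiv.Perm Ω)} (h : AltLe L) {a c d : Ω} (h1 : a ≠ c)
    (h2 : c ≠ d) (h3 : a ≠ d) : Equiv.swap a c * Equiv.swap c d ∈ L := by
  have := h a c d h1 h2 h3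
  convert this

/-- the image contains the alternating group if `L y` does -/
theorem alt_le_rho {y x : V} [Fintype (NX P y x)] [DecidableEq (NX P y x)] (hx : P.adj y x) (hA : AltLe (P.L y))
    (h1 : ∀ g ∈ P.S x ⊓ P.S y, g • y = y) (h2 : ∀ g ∈ P.S x ⊓ P.S y, g • x = x) :
    alternatingGroup (NX P y x) ≤ (rho P y x (P.S x ⊓ P.S y) h1 h2).range := by
  have hdec : DecidableEq {w : V // P.adj y w} := Classical.decEq _
  apply Cfsg.Agent.H942.alt_le_of_T
  intro a c d hac had hcd
  refine ⟨hac, had, hcd, ?_⟩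
  obtain ⟨ι, hι'⟩ : ∃ ι : NX P y x → {w : V // P.adj y w}, ∀ w, (ι w : V) = w := ⟨fun w => ⟨w.1, w.2.1⟩, fun _ => rfl⟩
  have hι : Function.Injective ι := fun u v h => Subtype.ext (by rw [← hι', ← hι', h])
  have hιx : ∀ u, (⟨x, hx⟩ : {w : V // P.adj y w}) ≠ ι u := fun u h => u.2.2 ((hι' u).symm.trans (congrArg Subtype.val h).symm)
  have h3 := altLe_mem hA (hι.ne hac) (hι.ne hcd) (hι.ne had)
  obtain ⟨g, hg, hge⟩ := mem_L.1 h3
  have hgx : g • x = x := by
    have h4 : (P.toPerm y ⟨g, hg⟩ ⟨x, hx⟩) = (Equiv.swap (ι a) (ι c) * Equiv.swap (ι c) (ι d)) ⟨x, hx⟩ := by rw [hge]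
    rw [Equiv.Perm.coe_mul, Function.comp_apply, Equiv.swap_apply_of_ne_of_ne (hιx c) (hιx d),
      Equiv.swap_apply_of_ne_of_ne (hιx a) (hιx c)] at h4
    exact congrArg Subtype.val h4
  refine ⟨⟨g, hgx, hg⟩, ?_⟩
  ext w
  have h4 : (P.toPerm y ⟨g, hg⟩ (ι w)) = (Equiv.swap (ι a) (ι c) * Equiv.swap (ι c) (ι d)) (ι w) := by rw [hge]
  rw [Equiv.Perm.coe_mul, Function.comp_apply, hι.swap_apply, hι.swap_apply] at h4
  have h5 := congrArg Subtype.val h4
  rw [hι'] at h5
  rw [Pol.toPerm_apply, hι'] at h5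
  exact h5

/-- `E = 1`, `L y` contains the alternating group, `t ≥ 8`: contradiction -/
theorem alt_e1 [Finite G] [Finite V] (F : Facts P) {x y : V} (hyx : P.adj y x) (hne : ¬ P.K x ≤ P.K y)
    (hE : P.K x ⊓ P.K y = ⊥) (hA : AltLe (P.L y)) (h8 : 8 ≤ P.q (P.tp y)) : False := by
  classical
  have := Fintype.ofFinite V
  have hxy := P.symm hyx
  obtain ⟨r, hr, h1, h2⟩ := exists_prime_mid3 h8
  have hr2 := hr.two_le
  have hfact : Fact r.Prime := ⟨hr⟩
  have hcy : Fintype.card (NX P y x) = P.q (P.tp y) := by rw [← Nat.card_eq_fintype_card, card_NX hyx]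
  -- `K x` covers the alternating group
  have hKS : P.K x ≤ P.S x ⊓ P.S y := fun k hk => ⟨hk.1, hk.2 y hxy⟩
  have hKn : ((P.K x).subgroupOf (P.S x ⊓ P.S y)).Normal := by
    constructor
    rintro ⟨k, hk⟩ hk' ⟨g, hg⟩
    exact K_conj' P hg.1 hk'
  have hcov := Cfsg.Agent.H508.AltFive.cover (X := NX P y x) (by omega)
    (rho P y x (P.S x ⊓ P.S y) (fun g hg => hg.2) (fun g hg => hg.1)) (alt_le_rho hyx hA _ _)
    ((P.K x).subgroupOf (P.S x ⊓ P.S y)) (by
      intro h3
      apply hne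
      intro k hk
      have h4 : (⟨k, hKS hk⟩ : ↥(P.S x ⊓ P.S y)) ∈ (P.K x).subgroupOf (P.S x ⊓ P.S y) := hk
      exact mem_ker_rho.1 (h3 h4))
  have hrK : r ∣ Nat.card (P.K x) := by
    have h3 := (dvd_card_alt (Ω := NX P y x) hr (by omega) (by omega)).trans (Subgroup.card_dvd_of_le hcov)
    refine (h3.trans (Subgroup.card_map_dvd _ _)).trans ?_
    rw [Nat.card_congr (Subgroup.subgroupOfEquivOfLe hKS).toEquiv]
  obtain ⟨⟨g, hgK⟩, hg⟩ := exists_prime_orderOf_dvd_card' r hrK
  have hgr : g ^ r = 1 := by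
    have h3 := pow_orderOf_eq_one (⟨g, hgK⟩ : P.K x)
    rw [hg] at h3
    exact congrArg Subtype.val h3
  have hg1 : g ≠ 1 := by
    rintro rfl
    rw [show (⟨1, hgK⟩ : P.K x) = 1 from rfl, orderOf_one] at hg
    omega
  -- a fixed point `w`
  obtain ⟨w, hw⟩ : ∃ w : NX P y x, g • (w : V) = w := by
    let σ := rho P y x (P.K x) (fun g hg => hg.2 y hxy) (fun g hg => hg.1) ⟨g, hgK⟩
    have h3 : IsPGroup r (Subgroup.zpowers σ) := by
      rintro ⟨_, k, rfl⟩
      refine ⟨1, Subtype.ext ?_⟩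
      show (σ ^ k) ^ r ^ 1 = 1
      have h4 : σ ^ r = 1 := by
        rw [← map_pow]
        have h5 : (⟨g, hgK⟩ : P.K x) ^ r = 1 := Subtype.ext hgr
        rw [h5, map_one]
      rw [pow_one, ← zpow_natCast, ← zpow_mul, mul_comm, zpow_mul, zpow_natCast, h4, one_zpow]
    obtain ⟨w, hw⟩ := h3.nonempty_fixed_point_of_prime_not_dvd_card (α := NX P y x) (by
      rw [card_NX hyx]
      rintro ⟨k, hk⟩
      have h5 : k < 2 := by
        by_contra h5
        have : r * 2 ≤ r * k := Nat.mul_le_mul_left r (by omega)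
        omega
      interval_cases k <;> omega)
    exact ⟨w, congrArg Subtype.val (hw ⟨σ, Subgroup.mem_zpowers σ⟩)⟩
  -- the second neighbour `v` of `x`
  obtain ⟨v, hxv, hyv⟩ := exists_other (P := P) (x := x) (y := y)
  have hvx := P.symm hxv
  have hEv : P.K x ⊓ P.K v = ⊥ := by
    obtain ⟨h, hh, hhv⟩ := Cfsg.Agent.H263.TW.trans_nb F hxy hxv
    rw [eq_bot_iff]
    rintro k ⟨hk1, hk2⟩
    have h3 : h⁻¹ * k * h ∈ P.K x ⊓ P.K y := by
      refine ⟨?_, ?_⟩
      · have := K_conj' P (inv_fix (show h • x = x from hh)) hk1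
        rwa [inv_inv] at this
      · have := K_conj P h⁻¹ hk2
        rwa [inv_inv, ← hhv, inv_smul_smul] at this
    rw [hE, mem_bot] at h3
    rw [mem_bot]
    calc k = h * (h⁻¹ * k * h) * h⁻¹ := by group
      _ = 1 := by rw [h3]; group
  have htv : P.tp v = P.tp y := by rw [P.tp_adj hxv, P.tp_adj hxy]
  have hcv : Fintype.card (NX P v x) = P.q (P.tp y) := by rw [← Nat.card_eq_fintype_card, card_NX hvx, htv]
  -- the group `R`
  set R : Subgroup G := P.S x ⊓ P.S y ⊓ P.S v ⊓ P.S (w : V) with hR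
  have hRv : ∀ k ∈ R, k • v = v := fun k hk => hk.1.2
  have hRx : ∀ k ∈ R, k • x = x := fun k hk => hk.1.1.1
  have hgR : g ∈ R := ⟨⟨⟨hgK.1, hgK.2 y hxy⟩, hgK.2 v hxv⟩, hw⟩
  set ρ := rho P v x R hRv hRx with hρ
  have htr : IsPretransitive ρ.range (NX P v x) := by
    refine ⟨fun u u' => ?_⟩
    obtain ⟨k, hk, hkw, hku⟩ := F.pair_trans (w := w) (x := y) (y := x) (z := v) (u := u) (w' := w) (u' := u')
      hyx hvx hyv w.2.1 w.2.2 u.2.1 u.2.2 w.2.1 w.2.2 u'.2.1 u'.2.2
    have hkR : k ∈ R := ⟨⟨⟨hk.1.2, hk.1.1⟩, hk.2⟩, hkw⟩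
    exact ⟨⟨ρ ⟨k, hkR⟩, ⟨k, hkR⟩, rfl⟩, Subtype.ext hku⟩
  set τ := ρ ⟨g, hgR⟩ with hτ
  have hτr : τ ^ r = 1 := by
    rw [hτ, ← map_pow]
    have h5 : (⟨g, hgR⟩ : R) ^ r = 1 := Subtype.ext hgr
    rw [h5, map_one]
  have hτ1 : τ ≠ 1 := by
    intro h3
    have h4 : (⟨g, hgR⟩ : R) ∈ ρ.ker := h3
    have h5 : g ∈ P.K x ⊓ P.K v := ⟨hgK, mem_ker_rho.1 h4⟩
    rw [hEv, mem_bot] at h5
    exact hg1 h5
  obtain ⟨u, hu⟩ : ∃ u, τ u ≠ u := by
    by_contra h3
    push Not at h3
    exact hτ1 (Equiv.ext h3)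
  have hτR : τ ∈ ρ.range := ⟨_, rfl⟩
  have hprim : IsPreprimitive ρ.range (NX P v x) :=
    Cfsg.Agent.H412.AltIndex.isPreprimitive_of_prime hr (⟨τ, hτR⟩ : ρ.range) (fun z => by
      have h3 : (⟨τ, hτR⟩ : ρ.range) ^ r = 1 := Subtype.ext hτr
      rw [h3, one_smul]) (x := u) hu (by rw [Nat.card_eq_fintype_card, hcv]; exact h1)
  have hdvd : r ∣ Nat.card ρ.range := by
    have h3 : orderOf (⟨τ, hτR⟩ : ρ.range) = r := by
      apply orderOf_eq_prime
      · exact Subtype.ext hτr
      · intro h4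
        exact hτ1 (congrArg Subtype.val h4)
    rw [← h3]
    exact _root_.orderOf_dvd_natCard _
  have halt := Cfsg.Agent.H202.TwoTransAlt.alt_le_of_dvd hr (by rw [hcv]; exact h1) (by rw [hcv]; omega)
    (by rw [hcv]; exact h2) ρ.range hprim hdvd
  -- `Q = K x ⊓ S w` covers the alternating group
  have hQR : P.K x ⊓ P.S (w : V) ≤ R := fun k hk => ⟨⟨⟨hk.1.1, hk.1.2 y hxy⟩, hk.1.2 v hxv⟩, hk.2⟩
  have hQn : ((P.K x ⊓ P.S (w : V)).subgroupOf R).Normal := by
    constructor
    rintro ⟨k, hk⟩ hk' ⟨h, hh⟩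
    refine ⟨K_conj' P (hRx h hh) hk'.1, ?_⟩
    exact (P.S (w : V)).mul_mem ((P.S (w : V)).mul_mem hh.2 hk'.2) ((P.S (w : V)).inv_mem hh.2)
  have hcov' := Cfsg.Agent.H508.AltFive.cover (X := NX P v x) (by omega) ρ halt ((P.K x ⊓ P.S (w : V)).subgroupOf R) (by
      intro h3
      have h4 : (⟨g, hgR⟩ : R) ∈ (P.K x ⊓ P.S (w : V)).subgroupOf R := ⟨hgK, hw⟩
      exact hτ1 (h3 h4))
  have hle1 : Nat.card (alternatingGroup (NX P v x)) ≤ Nat.card ↥(P.K x ⊓ P.S (w : V)) := by
    refine (Nat.le_of_dvd Nat.card_pos (Subgroup.card_dvd_of_le hcov')).trans ?_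
    refine (Nat.le_of_dvd Nat.card_pos (Subgroup.card_map_dvd _ _)).trans ?_
    rw [Nat.card_congr (Subgroup.subgroupOfEquivOfLe hQR).toEquiv]
  -- `|Q| ≤ (t - 1)!`
  have hle2 : Nat.card ↥(P.K x ⊓ P.S (w : V)) ≤ (P.q (P.tp y) - 1).factorial := by
    let ρ' := rho P y x (P.K x ⊓ P.S (w : V)) (fun k hk => hk.1.2 y hxy) (fun k hk => hk.1.1)
    have hinj : Function.Injective ρ' := by
      rw [← MonoidHom.ker_eq_bot_iff, eq_bot_iff]
      rintro ⟨k, hk⟩ hk'
      have h3 : k ∈ P.K x ⊓ P.K y := ⟨hk.1, mem_ker_rho.1 hk'⟩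
      rw [hE, mem_bot] at h3
      rw [mem_bot]
      exact Subtype.ext h3
    have h4 : Nat.card ↥(P.K x ⊓ P.S (w : V)) = Nat.card ρ'.range :=
      Nat.card_congr (MonoidHom.ofInjective hinj).toEquiv
    have h5 : ρ'.range ≤ fixingSubgroup (Equiv.Perm (NX P y x)) ({w} : Set (NX P y x)) := by
      rintro _ ⟨⟨k, hk⟩, rfl⟩
      rw [mem_fixingSubgroup_iff]
      rintro w' rfl
      exact Subtype.ext hk.2
    rw [h4]
    refine (Nat.le_of_dvd Nat.card_pos (Subgroup.card_dvd_of_le h5)).trans ?_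
    rw [Cfsg.Agent.S0713.card_fixingSubgroup_perm, Nat.card_eq_fintype_card, hcy, Set.ncard_singleton]
  have h3 := two_mul_card_alt (Ω := NX P v x) (by omega)
  rw [hcv] at h3
  obtain ⟨m, hm⟩ : ∃ m, P.q (P.tp y) = m + 1 := ⟨P.q (P.tp y) - 1, by omega⟩
  rw [hm, Nat.factorial_succ] at h3
  rw [hm, Nat.add_sub_cancel] at hle2
  have h4 : (m + 1) * m.factorial ≤ 2 * m.factorial := by omega
  have h5 := Nat.le_of_mul_le_mul_right h4 (Nat.factorial_pos m)
  omega

end Cfsg.Agent.H115.Tits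
end

-- part: H115/Tits/BE1Main
section
/-!
# S3414, case (B): the piece `StBE1`, assembly (helper115)
-/

set_option autoImplicit false
set_option linter.unusedSectionVars false

namespace Cfsg.Agent.H115.Tits

open Cfsg.Agent.H873.Tits Cfsg.Agent.H506.Tits Subgroup MulAction

universe u v

/-- there is no 2-transitive group of order 210 and degree 7 -/
def StNo210 : Prop := ∀ {Ω : Type v} [Finite Ω] (L : Subgroup (Equiv.Perm Ω)), TwoTr L → Nat.card Ω = 7 →
  Nat.card L = 210 → False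

theorem num_be1 {n s t j : ℕ} (hn : n = 4 ∨ n = 6 ∨ n = 8) (hs : 2 ≤ s) (ht : 2 ≤ t) (h48 : n = 4 → t ≤ s ^ 2)
    (h4 : n = 4 → (s + t) ∣ 2 * s * t * (1 + s) * (1 + t))
    (h : t ^ (n / 2 - 1) * s ^ (n / 2 - 1) * j ∣ (t - 1).factorial) : 8 ≤ t ∨ (n = 4 ∧ t = 6 ∧ s = 4) := by
  by_contra hlt
  have ht' : t ∣ (t - 1).factorial := by
    refine Dvd.dvd.trans ?_ h
    refine Dvd.dvd.mul_right (Dvd.dvd.mul_right (dvd_pow_self t ?_) _) _
    (clear * - hn; omega)
  have h6 : t = 6 := by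
    have : t ≤ 7 := by omega
    interval_cases t <;> revert ht' <;> decide
  subst h6
  have hf : (6 - 1).factorial = 120 := rfl
  rw [hf] at h
  rcases hn with rfl | rfl | rfl
  · have h1 : 6 ≤ s ^ 2 := h48 rfl
    have h2 : 6 * s ∣ 120 := by
      refine Dvd.dvd.trans ?_ h
      norm_num
    have h3 : s ≤ 20 := by
      have := Nat.le_of_dvd (by norm_num) h2
      omega
    have h5 := h4 rfl
    have h7 : s ≠ 4 := by omega
    clear hlt h48 h4 ht' hf h
    interval_cases s <;> revert h1 h2 h5 h7 <;> decide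
  · have h2 : 6 ^ 2 ∣ 120 := (Dvd.intro _ rfl).trans ((Dvd.intro _ rfl).trans h)
    revert h2; decide
  · have h2 : 6 ^ 3 ∣ 120 := (Dvd.intro _ rfl).trans ((Dvd.intro _ rfl).trans h)
    revert h2; decide

variable {G : Type u} [Group G] [Finite G] {V : Type v} [Finite V] [MulAction G V] {P : Pol G V} {b : Bool}

/-- `i_y = t^(m-1) s^(m-1) j`, `j ∣ s` -/
theorem idx_e1 (F : Facts P) (hB : CaseB P b) {x y y' : V} (hyx : P.adj y x) (hy : P.tp y = b) (hE : P.K x ⊓ P.K y = ⊥)
    (hopp : P.Opp y y') : ∃ j, j ∣ P.q (!b) ∧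
      P.idx y y' = P.q b ^ (P.n / 2 - 1) * P.q (!b) ^ (P.n / 2 - 1) * j := by
  have hn := P.hn
  obtain ⟨w, hxw, hyw⟩ := exists_other (P := P) (x := x) (y := y)
  obtain ⟨d, ⟨j, hj⟩, hK⟩ := Cfsg.Agent.H263.TW.caseB_card_K F hB hy hyx hxw hyw.symm
  rw [← Cfsg.Agent.H263.TW.EB_eq hB hy (P.symm hyx), hE, Subgroup.card_bot, one_mul] at hK
  have h1 := Cfsg.Agent.H263.TW.caseB_idx F hB hy hopp
  refine ⟨j, Dvd.intro_left d hj.symm, ?_⟩
  have h2 : P.q (!b) ^ (P.n / 2) = P.q (!b) ^ (P.n / 2 - 1) * (d * j) := by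
    rw [← hj, ← pow_succ, Nat.sub_add_cancel (by omega)]
  rw [hK, h2] at h1
  have hd : 0 < d := by
    rcases Nat.eq_zero_or_pos d with h | h
    · rw [h, zero_mul] at hj
      have := P.two_le (!b)
      omega
    · exact h
  apply Nat.eq_of_mul_eq_mul_right hd
  rw [h1]
  ring

/-- **`StBE1`** -/
theorem st_be1_of (hTab : StTabSq.{v}) (hNum : StPslNum.{v}) (hSub : StPslSub3.{v}) (h210 : StNo210.{v}) :
    StBE1.{u, v} := by
  intro G _ _ V _ _ P F N b hB x y hxy hy hne hna hE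
  have hyx := P.symm hxy
  obtain ⟨z, hyz, hxz⟩ := exists_other (P := P) (x := y) (y := x)
  obtain ⟨y', hopp⟩ := F.exists_opp y
  have hn := P.hn
  have hs := P.two_le (!b)
  have ht := P.two_le b
  obtain ⟨j, hj, hidx⟩ := idx_e1 F hB hyx hy hE hopp
  have hdvd := idx_dvd_T2 F hopp hyx hyz hxz
  have htT : P.q b ∣ P.T2 y x z := by
    refine Dvd.dvd.trans ?_ hdvd
    rw [hidx, mul_assoc]
    exact Dvd.dvd.mul_right (dvd_pow_self _ (by omega)) _
  have hfac := T2_dvd_factorial hyx hyz hxz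
  rw [hy] at hfac
  rcases hTab (P.L y) ⟨x, hyx⟩ ⟨z, hyz⟩ (twoTr_L F y) (three_le_nb P y) (fun h => hxz (congrArg Subtype.val h)) hna (by
    rw [P.card_nb, Nat.add_sub_cancel, ← T2_eq hyx hyz, hy]
    exact htT) with hA | ⟨p, d, f, h⟩
  · have hdf := hdvd.trans hfac
    rw [hidx] at hdf
    rcases num_be1 hn hs ht (fun h => N.hig48 (Or.inl h) _) (fun h => by
        have h4 := N.fh4 h
        cases b with
        | true =>
          simp only [Bool.not_true] at *
          rw [show P.q false + P.q true = P.q true + P.q false by ring,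
            show 2 * P.q false * P.q true * (1 + P.q false) * (1 + P.q true) =
              2 * P.q true * P.q false * (1 + P.q true) * (1 + P.q false) by ring]
          exact h4
        | false => exact h4) hdf with h8 | ⟨hn4, ht6, hs4⟩
    · exact alt_e1 F hyx hne hE hA (by rw [hy]; exact h8)
    · -- `(s, t) = (4, 6)`
      classical
      have hfin := Cfsg.Agent.H263.TW.finite_nb P y
      have := Fintype.ofFinite {w : V // P.adj y w}
      have hcard : Nat.card {w : V // P.adj y w} = 7 := by rw [P.card_nb, hy, ht6]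
      have hL := Cfsg.Agent.H592.E4.card_twoTr (twoTr_L F y) (a := (⟨x, hyx⟩ : {w : V // P.adj y w})) (b := ⟨z, hyz⟩)
        (fun h => hxz (congrArg Subtype.val h))
      rw [← T2_eq hyx hyz, hcard] at hL
      have halt := two_mul_card_alt (Ω := {w : V // P.adj y w}) (by rw [← Nat.card_eq_fintype_card, hcard]; norm_num)
      rw [← Nat.card_eq_fintype_card, hcard, show (7 : ℕ).factorial = 5040 from rfl] at halt
      have hA' := Subgroup.card_dvd_of_le (alt_le_of hA)
      rw [hL] at hA'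
      rw [show Nat.card (alternatingGroup {w : V // P.adj y w}) = 2520 by omega] at hA'
      rw [ht6] at hfac
      rw [show (6 - 1 : ℕ).factorial = 120 from rfl] at hfac
      rw [ht6, hs4, hn4] at hidx
      rw [hs4] at hj
      norm_num only [] at hidx hA'
      have hT : P.T2 y x z = 120 := by
        have h1 : 24 ∣ P.T2 y x z := (Dvd.intro _ hidx.symm).trans hdvd
        obtain ⟨k, hk⟩ := h1
        rw [hk] at hfac hA' ⊢
        have h2 : k ∣ 5 := by
          obtain ⟨l, hl⟩ := hfac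
          exact ⟨l, by rw [mul_assoc] at hl; omega⟩
        rcases (Nat.dvd_prime (by norm_num)).1 h2 with rfl | rfl
        · norm_num at hA'
        · rfl
      have hj1 : j = 1 := by
        rw [hidx, hT] at hdvd
        have h2 : j ∣ 5 := by
          obtain ⟨l, hl⟩ := hdvd
          exact ⟨l, by rw [mul_assoc] at hl; omega⟩
        rcases (Nat.dvd_prime (by norm_num)).1 h2 with rfl | rfl
        · rfl
        · norm_num at hj
      rw [hj1, mul_one] at hidx
      have h5 : Nat.card (P.L' y y') * P.idx y y' = Nat.card (P.L y) := by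
        have h6 := Subgroup.card_mul_index ((P.L' y y').subgroupOf (P.L y))
        rw [Nat.card_congr (Subgroup.subgroupOfEquivOfLe (L'_le P y y')).toEquiv] at h6
        exact h6
      rw [hidx, hL, hT] at h5
      exact h210 (P.L' y y') (twoTr_L' F hopp) hcard (by omega)
  · exact psl_sq hNum hSub F hB hy hyx hyz hxz hna htT h

end Cfsg.Agent.H115.Tits
end

-- part: H270/Tits/PslSemi
section
/-!
# S3414, case (B): `StPslSemi` (helper270)
-/

set_option autoImplicit false

namespace Cfsg.Agent.H270.Tits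

open Subgroup Cfsg.Agent.H873.Tits Cfsg.Agent.H384.TwoTrans Elat
open scoped LinearAlgebra.Projectivization

universe u v

/-! ## subnormal subgroups -/

/-- `t ↦ x t x⁻¹ t⁻¹` -/
def ad {Γ : Type u} [Group Γ] (x t : Γ) : Γ := x * t * x⁻¹ * t⁻¹

theorem subnormal_ad {A : Type u} [Group A] {H : Subgroup A} (h : H.IsSubnormal) :
    ∀ x ∈ H, ∃ k : ℕ, ∀ t : A, (ad x)^[k] t ∈ H := by
  induction h with
  | top => exact fun x _ => ⟨0, fun t => trivial⟩
  | step H K hle _ hN ih =>
    intro x hx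
    obtain ⟨k, hk⟩ := ih x (hle hx)
    refine ⟨k + 1, fun t => ?_⟩
    rw [Function.iterate_succ_apply']
    set u := (ad x)^[k] t with hu
    have huK : u ∈ K := hk t
    have h1 := hN.conj_mem ⟨x⁻¹, hle (inv_mem hx)⟩ (inv_mem hx) ⟨u, huK⟩
    have h2 : u * x⁻¹ * u⁻¹ ∈ H := h1
    have h3 : ad x u = x * (u * x⁻¹ * u⁻¹) := by unfold ad; group
    rw [h3]
    exact mul_mem hx h2

theorem subnormal_ad' {Γ : Type u} [Group Γ] {A M : Subgroup Γ} (hMA : M ≤ A) (h : (M.subgroupOf A).IsSubnormal) {x : Γ}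
    (hx : x ∈ M) : ∃ k : ℕ, ∀ t ∈ A, (ad x)^[k] t ∈ M := by
  obtain ⟨k, hk⟩ := subnormal_ad h ⟨x, hMA hx⟩ hx
  refine ⟨k, fun t ht => ?_⟩
  have h1 := hk ⟨t, ht⟩
  have h2 : ∀ j : ℕ, (((ad (⟨x, hMA hx⟩ : A))^[j] ⟨t, ht⟩ : A) : Γ) = (ad x)^[j] t := by
    intro j
    induction j with
    | zero => rfl
    | succ j ih =>
      rw [Function.iterate_succ_apply', Function.iterate_succ_apply', ← ih]
      rfl
  rw [mem_subgroupOf, h2] at h1
  exact h1

/-- coprime action on an abelian group -/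
theorem ad_eq_one {Γ : Type u} [Group Γ] (E : Subgroup Γ) {p n : ℕ}
    (hexp : ∀ a ∈ E, a ^ p = 1) {x : Γ} (hx : ∀ a ∈ E, x * a * x⁻¹ ∈ E) (hxn : x ^ n = 1) (hnp : Nat.Coprime n p) {k : ℕ}
    (hk : ∀ t ∈ E, (ad x)^[k] t = 1) : ∀ t ∈ E, x * t = t * x := by
  have hadE : ∀ t ∈ E, ad x t ∈ E := fun t ht => mul_mem (hx t ht) (inv_mem ht)
  have hadE' : ∀ j : ℕ, ∀ t ∈ E, (ad x)^[j] t ∈ E := by
    intro j
    induction j with
    | zero => exact fun t ht => ht
    | succ j ih =>
      intro t ht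
      rw [Function.iterate_succ_apply']
      exact hadE _ (ih t ht)
  have hone : ∀ t : Γ, ad x t = 1 → x * t = t * x := by
    intro t ht
    have h1 : x * t * x⁻¹ = t := by
      have : x * t * x⁻¹ * t⁻¹ = 1 := ht
      rwa [mul_inv_eq_one] at this
    rw [mul_inv_eq_iff_eq_mul] at h1
    exact h1
  -- the step
  have step : ∀ u ∈ E, ad x (ad x u) = 1 → ad x u = 1 := by
    intro u hu h
    set z := ad x u with hz
    have hzE : z ∈ E := hadE u hu
    have hxz := hone z h
    have h1 : ∀ j : ℕ, x ^ j * u = z ^ j * u * x ^ j := by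
      intro j
      induction j with
      | zero => simp
      | succ j ih =>
        have h2 : x * u = z * u * x := by
          have h3 : z = x * u * x⁻¹ * u⁻¹ := rfl
          rw [h3]; group
        have h3 : x * z ^ j = z ^ j * x := (show Commute x z from hxz).pow_right j
        calc x ^ (j + 1) * u = x * (x ^ j * u) := by rw [pow_succ', mul_assoc]
          _ = x * (z ^ j * u * x ^ j) := by rw [ih]
          _ = z ^ j * (x * u) * x ^ j := by rw [← mul_assoc, ← mul_assoc, h3, mul_assoc (z ^ j)]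
          _ = z ^ j * (z * u * x) * x ^ j := by rw [h2]
          _ = z ^ (j + 1) * u * x ^ (j + 1) := by rw [pow_succ z j, pow_succ' x j]; simp only [mul_assoc]
    have h2 := h1 n
    rw [hxn, one_mul, mul_one] at h2
    have h3 : z ^ n = 1 := by
      have : z ^ n * u = 1 * u := by rw [one_mul]; exact h2.symm
      exact mul_right_cancel this
    have h4 := hexp z hzE
    have h5 : orderOf z ∣ 1 := by
      rw [← hnp]
      exact Nat.dvd_gcd (orderOf_dvd_of_pow_eq_one h3) (orderOf_dvd_of_pow_eq_one h4)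
    exact orderOf_eq_one_iff.1 (Nat.dvd_one.1 h5)
  have main : ∀ k : ℕ, (∀ t ∈ E, (ad x)^[k] t = 1) → ∀ t ∈ E, ad x t = 1 := by
    intro k
    induction k with
    | zero =>
      intro h t ht
      have h1 : t = 1 := h t ht
      rw [h1]
      unfold ad
      simp
    | succ k ih =>
      intro h
      by_cases hk0 : k = 0
      · subst hk0
        exact h
      · refine ih fun t ht => ?_
        obtain ⟨j, rfl⟩ : ∃ j, k = j + 1 := ⟨k - 1, by omega⟩
        rw [Function.iterate_succ_apply']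
        apply step _ (hadE' j t ht)
        have h1 := h t ht
        rw [Function.iterate_succ_apply', Function.iterate_succ_apply'] at h1
        exact h1
  exact fun t ht => hone t (main k hk t ht)

/-! ## from `PSLType` to the projective action -/

theorem twoTr_iff' {Ω : Type v} {L : Subgroup (Equiv.Perm Ω)} (h : TwoTr L) : MulAction.IsMultiplyPretransitive L Ω 2 := by
  rw [MulAction.is_two_pretransitive_iff]
  intro a b c d hab hcd
  obtain ⟨g, hg, h1, h2⟩ := h a b c d hab hcd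
  exact ⟨⟨g, hg⟩, h1, h2⟩

theorem psl_noncomm {F : Type} [Field F] [Fintype F] {p f d : ℕ} (hd : 3 ≤ d) (hp : p.Prime) (hf : 1 ≤ f)
    (hF : Fintype.card F = p ^ f) (hcomm : ∀ a b : Matrix.ProjectiveSpecialLinearGroup (Fin d) F, a * b = b * a) :
    False := by
  have hs : IsSimpleGroup (Matrix.ProjectiveSpecialLinearGroup (Fin d) F) := S0249.result d hd
  let _ : CommGroup (Matrix.ProjectiveSpecialLinearGroup (Fin d) F) := { (inferInstance : Group _) with mul_comm := hcomm }
  have hp1 := IsSimpleGroup.prime_card (α := Matrix.ProjectiveSpecialLinearGroup (Fin d) F)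
  have hp2 : (Nat.card (Matrix.ProjectiveSpecialLinearGroup (Fin d) F)).Prime := hp1
  have hc := S0243.result hF d (by omega)
  have hpq : ¬ p ∣ p ^ f - 1 := by
    intro h
    have h1 : p ∣ p ^ f := dvd_pow_self p (by omega)
    have h2 : p ∣ p ^ f - (p ^ f - 1) := Nat.dvd_sub h1 h
    have h3 : p ^ f - (p ^ f - 1) = 1 := by
      have : 0 < p ^ f := Nat.pow_pos hp.pos
      omega
    rw [h3] at h2
    exact hp.one_lt.ne' (Nat.dvd_one.1 h2)
  have h1 : p ^ 2 ∣ ∏ i : Fin d, ((p ^ f) ^ d - (p ^ f) ^ (i : ℕ)) := by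
    refine dvd_trans ?_ (Finset.dvd_prod_of_mem _ (Finset.mem_univ (⟨2, by omega⟩ : Fin d)))
    have h2 : (p ^ f) ^ 2 ∣ (p ^ f) ^ d - (p ^ f) ^ 2 := Nat.dvd_sub (pow_dvd_pow _ (by omega)) dvd_rfl
    refine dvd_trans ?_ h2
    rw [← pow_mul]
    exact pow_dvd_pow p (by omega)
  rw [← hc] at h1
  have hcop : Nat.Coprime (p ^ 2) (p ^ f - 1) := Nat.Coprime.pow_left _ ((hp.coprime_iff_not_dvd).2 hpq)
  have hcop' : Nat.Coprime (p ^ 2) (Nat.gcd d (p ^ f - 1)) := hcop.coprime_dvd_right (Nat.gcd_dvd_right _ _)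
  have h2 := hcop.dvd_of_dvd_mul_left (hcop'.dvd_of_dvd_mul_left h1)
  have h3 : p ∣ Nat.card (Matrix.ProjectiveSpecialLinearGroup (Fin d) F) := (dvd_pow_self p two_ne_zero).trans h2
  have h4 := (Nat.prime_dvd_prime_iff_eq hp hp2).1 h3
  rw [← h4] at h2
  have h5 := Nat.le_of_dvd hp.pos h2
  have := hp.two_le
  nlinarith only [h5, this]

theorem as_of {Ω : Type v} [Finite Ω] {L : Subgroup (Equiv.Perm Ω)} {p d f : ℕ} (h2 : TwoTr L) (h : PSLType L p d f) :
    ∃ (T : Subgroup L) (F : Type) (_ : Field F) (_ : Fintype F), AS L Ω T ∧ Fintype.card F = p ^ f ∧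
      Nonempty (T ≃* Matrix.ProjectiveSpecialLinearGroup (Fin d) F) := by
  obtain ⟨hd, hf, hp, hc, X, hXL, hXn, hmin, F, _, _, hF, ⟨e⟩⟩ := h
  have hN := hXn
  have e' : ↥(X.subgroupOf L) ≃* Matrix.ProjectiveSpecialLinearGroup (Fin d) F := (subgroupOfEquivOfLe hXL).trans e
  have hs : IsSimpleGroup (Matrix.ProjectiveSpecialLinearGroup (Fin d) F) := S0249.result d hd
  have hs' : IsSimpleGroup (X.subgroupOf L) := e'.isSimpleGroup
  have hfaith : FaithfulSMul L Ω := ⟨fun {a b} h => Subtype.ext (Equiv.ext h)⟩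
  have hna : ¬ IsMulCommutative (X.subgroupOf L) := by
    intro hcomm
    exact psl_noncomm hd hp hf hF fun a b => by
      apply e'.symm.injective
      rw [map_mul, map_mul]
      exact hcomm.is_comm.comm _ _
  have hcent : centralizer ((X.subgroupOf L : Subgroup L) : Set L) = ⊥ := by
    by_contra hne
    have h1 := hmin ((centralizer ((X.subgroupOf L : Subgroup L) : Set L)).map L.subtype) (map_subtype_le _) (by
      rw [← comap_subtype, comap_map_eq_self_of_injective (subtype_injective L)]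
      infer_instance) (fun h => hne ((map_eq_bot_iff_of_injective _ (subtype_injective L)).1 h))
    apply hna
    refine ⟨⟨fun a b => Subtype.ext ?_⟩⟩
    obtain ⟨c, hc1, hc2⟩ := h1 (mem_subgroupOf.1 a.2)
    have hca : c = a.1 := subtype_injective L hc2
    have := mem_centralizer_iff.1 hc1 b.1 b.2
    rw [hca] at this
    exact this.symm
  exact ⟨X.subgroupOf L, F, _, _, ⟨inferInstance, inferInstance, hfaith, twoTr_iff' h2, hXn, hs', hna, hcent⟩, hF, ⟨e'⟩⟩

open Cfsg.Agent.H115.Tits in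
/-- **`StPslSemi`** -/
theorem st_psl_semi : StPslSemi.{v} := by
  intro Ω _ L p d f h2 h a M hM hsub hsemi
  obtain ⟨hd, hf, hp, hc, -⟩ := id h
  obtain ⟨T, F, _, _, A, hF, ⟨e⟩⟩ := as_of h2 h
  have := Fact.mk hp
  have hchar : CharP F p := by
    obtain ⟨r, hr⟩ := CharP.exists F
    have hrp : r.Prime := (CharP.char_is_prime_or_zero F r).resolve_right (CharP.char_ne_zero_of_finite F r)
    obtain ⟨k, -, hk⟩ := FiniteField.card F r
    have h3 : r ∣ p ^ f := by
      rw [← hF, hk]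
      exact dvd_pow_self r k.ne_zero
    have h4 := (Nat.prime_dvd_prime_iff_eq hrp hp).1 (hrp.dvd_of_dvd_pow h3)
    rwa [← h4]
  have hpn : ¬ p ∣ Nat.card Ω := by
    intro hpd
    have h1 : p ∣ (p ^ f) ^ d - 1 := hc ▸ hpd.mul_right _
    have h3 : p ∣ (p ^ f) ^ d := by
      rw [← pow_mul]
      exact dvd_pow_self p (Nat.mul_ne_zero (by omega) (by omega))
    have h4 : 0 < (p ^ f) ^ d := Nat.pow_pos (Nat.pow_pos hp.pos)
    have h5 : p ∣ 1 := by
      have h6 := Nat.dvd_sub h3 h1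
      have h7 : (p ^ f) ^ d - ((p ^ f) ^ d - 1) = 1 := by omega
      rwa [h7] at h6
    exact hp.one_lt.ne' (Nat.dvd_one.1 h5)
  obtain ⟨m, rfl⟩ : ∃ m, d = m + 1 + 1 := ⟨d - 2, by omega⟩
  obtain ⟨e', Φ, hΦ⟩ := H410.ASLie.psl_equiv A e hpn
  have hfaith := A.faithful
  have hnorm := A.normal
  have hact : ∀ (y : T) (s : Matrix.SpecialLinearGroup (Fin (m + 1 + 1)) F),
      (s : Matrix.ProjectiveSpecialLinearGroup (Fin (m + 1 + 1)) F) = e' y → ∀ ω w, Pt Φ ω w →
        Pt Φ ((y : L) • ω) (s.1.mulVec w) := by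
    intro y s hys ω w hw
    obtain ⟨hw0, hw⟩ := hw
    refine ⟨mulVec_ne hw0, ?_⟩
    have h1 : Φ (y • ω) = s • Φ ω := by
      rw [hΦ, ← hys]
      exact Matrix.ProjectiveSpecialLinearGroup.smul_proj_mk s (Φ ω)
    have h3 : Φ ((y : L) • ω) = s • Φ ω := h1
    rw [h3, hw]
    rfl
  have P : PA T Φ := by
    refine ⟨fun g hg => ?_, fun g t ht => hnorm.conj_mem t ht g, fun t ht => ?_, fun s => ?_⟩
    · apply FaithfulSMul.eq_of_smul_eq_smul (α := Ω)
      intro ω
      rw [hg ω, one_smul]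
    · obtain ⟨s, hs⟩ := QuotientGroup.mk_surjective (e' ⟨t, ht⟩)
      exact ⟨s, hact ⟨t, ht⟩ s hs⟩
    · refine ⟨(e'.symm (s : Matrix.ProjectiveSpecialLinearGroup (Fin (m + 1 + 1)) F) : T), (e'.symm _).2, ?_⟩
      exact hact _ s (by rw [MulEquiv.apply_symm_apply])
  obtain ⟨v, hv⟩ := pt_exists Φ a
  have h3 : 3 ≤ m + 1 + 1 := hd
  -- `M` meets the group of elations trivially
  have hME : ∀ g ∈ P.El v, (g : Equiv.Perm Ω) ∈ M → g = 1 := by
    intro g hg hgM
    obtain ⟨b, hba, hb⟩ := P.El_second h3 hv hg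
    exact Subtype.ext (hsemi g hgM b hba hb)
  -- elements of order prime to `p`
  have key : ∀ x ∈ M, ∀ r : ℕ, x ^ r = 1 → Nat.Coprime r p → x = 1 := by
    intro x hx r hxr hrp
    have hxS := hM hx
    set X : L := ⟨x, hxS.1⟩ with hX
    have hXa : X • a = a := hxS.2
    have hXr : X ^ r = 1 := Subtype.ext hxr
    obtain ⟨k, hk⟩ := subnormal_ad' hM hsub hx
    have h4 : ∀ t : L, ∀ j : ℕ, (((ad X)^[j] t : L) : Equiv.Perm Ω) = (ad x)^[j] (t : Equiv.Perm Ω) := by
      intro t j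
      induction j with
      | zero => rfl
      | succ j ih =>
        rw [Function.iterate_succ_apply', Function.iterate_succ_apply', ← ih]
        rfl
    have hconj : ∀ t ∈ P.El v, X * t * X⁻¹ ∈ P.El v := fun t ht => P.El_conj h3 hv hXa ht
    have hadE : ∀ j : ℕ, ∀ t ∈ P.El v, (ad X)^[j] t ∈ P.El v := by
      intro j
      induction j with
      | zero => exact fun t ht => ht
      | succ j ih =>
        intro t ht
        rw [Function.iterate_succ_apply']
        exact mul_mem (hconj _ (ih t ht)) (inv_mem (ih t ht))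
    have h5 : ∀ t ∈ P.El v, (ad X)^[k] t = 1 := by
      intro t ht
      apply hME _ (hadE k t ht)
      rw [h4]
      refine hk _ ⟨t.2, ?_⟩
      exact P.El_fix hv ht
    have h6 := ad_eq_one (P.El v) (p := p) (fun a ha => P.El_exp ha) hconj hXr hrp h5
    have h7 := P.El_cent hv hXa h6 hXr hrp
    exact congrArg Subtype.val h7
  refine IsPGroup.of_card (n := (Nat.card M).primeFactorsList.length)
    (Nat.eq_prime_pow_of_unique_prime_dvd Nat.card_pos.ne' ?_)
  intro r hr hrM
  have := Fact.mk hr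
  by_contra hrp
  obtain ⟨x, hx⟩ := exists_prime_orderOf_dvd_card' (G := M) r hrM
  have h5 := key x x.2 r (by
    have : x ^ r = 1 := by rw [← hx, pow_orderOf_eq_one]
    exact congrArg Subtype.val this) ((Nat.coprime_primes hr hp).2 hrp)
  have h6 : x = 1 := Subtype.ext h5
  rw [h6, orderOf_one] at hx
  exact hr.one_lt.ne hx

end Cfsg.Agent.H270.Tits
end

-- part: H803/BP/Core
section
/-!
# S3414: 2-transitive subgroups of `p`-power index in degree `p ^ a + 1` (helper803)

* `key` : the inequality which forces `T ≤ H`;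
* `alt_case` : the alternating groups;
* `exists_fix_two` : a simple transitive group is not a Frobenius group.
-/

set_option autoImplicit false
set_option linter.unusedSectionVars false

namespace Cfsg.Agent.H803.BP

open Subgroup MulAction Cfsg.Agent.H384.TwoTrans
open scoped Pointwise

universe u v

section

variable {G : Type u} {Ω : Type v} [Group G] [MulAction G Ω] {T : Subgroup G}

theorem card_dvd_factorial (A : AS G Ω T) : Nat.card G ∣ (Nat.card Ω).factorial := by
  have := A.faithful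
  have := A.finΩ
  have h1 : Nat.card G ∣ Nat.card (Equiv.Perm Ω) :=
    Subgroup.card_dvd_of_injective (MulAction.toPermHom G Ω) MulAction.toPerm_injective
  rwa [Nat.card_perm] at h1

/-- the order of a 2-transitive group -/
theorem dvd_card_of_two {H : Type u} [Group H] [MulAction H Ω] [Finite Ω] (h2 : IsMultiplyPretransitive H Ω 2)
    (hn : 2 ≤ Nat.card Ω) : Nat.card Ω * (Nat.card Ω - 1) ∣ Nat.card H := by
  have hnt : Nontrivial Ω := Finite.one_lt_card_iff_nontrivial.1 (by omega)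
  obtain ⟨a, b, hab⟩ := exists_pair_ne Ω
  have h1 := h2.index_of_fixingSubgroup_mul (s := {a, b}) (Set.ncard_pair hab)
  obtain ⟨k, hk⟩ : ∃ k, Nat.card Ω = k + 2 := ⟨Nat.card Ω - 2, by omega⟩
  rw [hk] at h1 ⊢
  have h3 : (k + 2).factorial = (k + 2) * (k + 1) * k.factorial := by
    rw [Nat.factorial_succ, Nat.factorial_succ]; ring
  rw [Nat.add_sub_cancel, h3] at h1
  have h4 := Nat.eq_of_mul_eq_mul_right (Nat.factorial_pos k) h1
  rw [show k + 2 - 1 = k + 1 by omega, ← h4]
  exact Subgroup.index_dvd_card _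

/-- the order of a simple group with a proper subgroup of index `n` divides `n!` -/
theorem card_dvd_factorial_index {X : Type u} [Group X] [Finite X] [IsSimpleGroup X] {M : Subgroup X} (hM : M ≠ ⊤) :
    Nat.card X ∣ (M.index).factorial := by
  have h1 : (MulAction.toPermHom X (X ⧸ M)).ker = ⊥ := by
    rcases IsSimpleGroup.eq_bot_or_eq_top_of_normal (MulAction.toPermHom X (X ⧸ M)).ker inferInstance with h | h
    · exact h
    · exfalso
      apply hM
      rw [eq_top_iff]
      intro x _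
      have hx : x ∈ (MulAction.toPermHom X (X ⧸ M)).ker := by rw [h]; exact mem_top x
      rw [MonoidHom.mem_ker] at hx
      have h2 := congrArg (fun f : Equiv.Perm (X ⧸ M) => f (QuotientGroup.mk 1)) hx
      have h3 : (QuotientGroup.mk (x * 1) : X ⧸ M) = QuotientGroup.mk 1 := h2
      rw [mul_one] at h3
      have h4 := QuotientGroup.eq.1 h3
      rwa [mul_one, inv_mem_iff] at h4
  have h2 : Nat.card X ∣ Nat.card (Equiv.Perm (X ⧸ M)) :=
    Subgroup.card_dvd_of_injective _ ((MonoidHom.ker_eq_bot_iff _).1 h1)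
  rwa [Nat.card_perm] at h2

theorem factorization_factorial_lt {p n : ℕ} (hp : p.Prime) (hn : 0 < n) : n.factorial.factorization p < n := by
  have := Fact.mk hp
  have h1 := sub_one_mul_padicValNat_factorial (p := p) n
  rw [← Nat.factorization_def _ hp] at h1
  have h2 : 0 < (p.digits n).sum := by
    have h3 : p.digits n ≠ [] := Nat.digits_ne_nil_iff_ne_zero.2 hn.ne'
    have h4 := Nat.getLast_digit_ne_zero p hn.ne'
    have h5 : (p.digits n).getLast h3 ≤ (p.digits n).sum := List.single_le_sum (fun _ _ => Nat.zero_le _) _ (List.getLast_mem _)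
    omega
  have h3 : n.factorial.factorization p ≤ (p - 1) * n.factorial.factorization p :=
    Nat.le_mul_of_pos_left _ (by have := hp.two_le; omega)
  omega

/-- the index of `T ⊓ H` in `T` divides the index of `H` -/
theorem relIndex_dvd_index [Finite G] (H : Subgroup G) (hT : T.Normal) : H.relIndex T ∣ H.index := by
  have h1 : T.relIndex (H ⊔ T) = T.relIndex H := Subgroup.relIndex_sup_right H T
  have e1 : Nat.card ↥T * T.relIndex (H ⊔ T) = Nat.card ↥(H ⊔ T) := by
    have := (T.subgroupOf (H ⊔ T)).card_mul_index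
    rwa [Nat.card_congr (Subgroup.subgroupOfEquivOfLe le_sup_right).toEquiv] at this
  have e2 : Nat.card ↥(H ⊓ T) * T.relIndex H = Nat.card ↥H := by
    have := ((T ⊓ H).subgroupOf H).card_mul_index
    rw [Nat.card_congr (Subgroup.subgroupOfEquivOfLe inf_le_right).toEquiv] at this
    have h3 : ((T ⊓ H).subgroupOf H).index = T.relIndex H := Subgroup.inf_relIndex_right T H
    rw [h3] at this
    rwa [inf_comm]
  have e3 : Nat.card ↥(H ⊓ T) * H.relIndex T = Nat.card ↥T := by
    have := ((H ⊓ T).subgroupOf T).card_mul_index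
    rw [Nat.card_congr (Subgroup.subgroupOfEquivOfLe inf_le_right).toEquiv] at this
    have h3 : ((H ⊓ T).subgroupOf T).index = H.relIndex T := Subgroup.inf_relIndex_right H T
    rwa [h3] at this
  have e4 : Nat.card ↥H * H.relIndex (H ⊔ T) = Nat.card ↥(H ⊔ T) := by
    have := (H.subgroupOf (H ⊔ T)).card_mul_index
    rwa [Nat.card_congr (Subgroup.subgroupOfEquivOfLe le_sup_left).toEquiv] at this
  have h5 : H.relIndex T = H.relIndex (H ⊔ T) := by
    have hpos : 0 < Nat.card ↥H * Nat.card ↥(H ⊓ T) := Nat.mul_pos Nat.card_pos Nat.card_pos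
    apply Nat.eq_of_mul_eq_mul_left hpos
    calc Nat.card ↥H * Nat.card ↥(H ⊓ T) * H.relIndex T = Nat.card ↥H * (Nat.card ↥(H ⊓ T) * H.relIndex T) := by ring
      _ = Nat.card ↥H * Nat.card ↥T := by rw [e3]
      _ = (Nat.card ↥(H ⊓ T) * T.relIndex H) * Nat.card ↥T := by rw [e2]
      _ = Nat.card ↥(H ⊓ T) * (Nat.card ↥T * T.relIndex (H ⊔ T)) := by rw [h1]; ring
      _ = Nat.card ↥(H ⊓ T) * (Nat.card ↥H * H.relIndex (H ⊔ T)) := by rw [e1, e4]
      _ = _ := by ring
  rw [h5]
  exact Subgroup.relIndex_dvd_index_of_le le_sup_left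

theorem factorization_card (A : AS G Ω T) (p : ℕ) :
    (Nat.card G).factorization p = (Nat.card ↥T).factorization p + T.index.factorization p := by
  have := A.finG
  rw [← T.card_mul_index, Nat.factorization_mul Nat.card_pos.ne' Subgroup.index_ne_zero_of_finite, Finsupp.add_apply]

/-- `p^e ≤` the `p`-part of the index of `T` -/
theorem e_le (A : AS G Ω T) {p e : ℕ} (hp : p.Prime) {H : Subgroup G} (he : H.index = p ^ e) (hTH : T ≤ H) :
    p ^ e ≤ p ^ T.index.factorization p := by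
  have := A.finG
  apply Nat.pow_le_pow_right hp.pos
  have h1 : p ^ e ∣ T.index := he ▸ Subgroup.index_dvd_of_le hTH
  exact (hp.pow_dvd_iff_le_factorization Subgroup.index_ne_zero_of_finite).1 h1

theorem factorization_two (A : AS G Ω T) {p a e : ℕ} (hp : p.Prime) (hc : Nat.card Ω = p ^ a + 1) {H : Subgroup G}
    (hH : IsMultiplyPretransitive H Ω 2) (he : H.index = p ^ e) :
    a + e ≤ (Nat.card G).factorization p := by
  have := A.finG
  have := A.finΩ
  have h5 := A.five_le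
  have h1 := dvd_card_of_two hH (by omega)
  have h2 : p ^ a * p ^ e ∣ Nat.card G := by
    rw [← H.card_mul_index, he]
    refine Nat.mul_dvd_mul_right ?_ _
    refine dvd_trans ?_ h1
    rw [hc, Nat.add_sub_cancel]
    exact Dvd.intro_left _ rfl
  rw [← pow_add] at h2
  exact (hp.pow_dvd_iff_le_factorization Nat.card_pos.ne').1 h2

/-- **the key inequality** -/
theorem key (A : AS G Ω T) {p a e : ℕ} (hp : p.Prime) (hc : Nat.card Ω = p ^ a + 1) {H : Subgroup G}
    (hH : IsMultiplyPretransitive H Ω 2) (he : H.index = p ^ e)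
    (hineq : p ^ (Nat.card ↥T).factorization p * p ^ T.index.factorization p ≤ (Nat.card ↥T).factorization p * p ^ a) :
    T ≤ H := by
  have := A.finG
  have := A.finT
  have := A.simple
  have hT := A.normal
  obtain ⟨j, hje, hj⟩ : ∃ j ≤ e, H.relIndex T = p ^ j := (Nat.dvd_prime_pow hp).1 (he ▸ relIndex_dvd_index H hT)
  have hfac := factorization_two A hp hc hH he
  rw [factorization_card A] at hfac
  by_contra hcon
  have hM : H.subgroupOf T ≠ ⊤ := fun h => hcon (Subgroup.subgroupOf_eq_top.1 h)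
  have h1 := card_dvd_factorial_index hM
  have h2 : (H.subgroupOf T).index = p ^ j := hj
  rw [h2] at h1
  have h3 : (Nat.card ↥T).factorization p ≤ (p ^ j).factorial.factorization p :=
    (Nat.factorization_le_iff_dvd Nat.card_pos.ne' (Nat.factorial_ne_zero _)).2 h1 p
  have h4 := factorization_factorial_lt hp (n := p ^ j) (Nat.pow_pos hp.pos)
  have h5 : p ^ a * p ^ j ≤ p ^ (Nat.card ↥T).factorization p * p ^ T.index.factorization p := by
    rw [← pow_add, ← pow_add]
    exact Nat.pow_le_pow_right hp.pos (by omega)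
  have h6 : (Nat.card ↥T).factorization p * p ^ a < p ^ a * p ^ j := by
    rw [mul_comm (p ^ a)]
    exact Nat.mul_lt_mul_of_pos_right (lt_of_le_of_lt h3 h4) (Nat.pow_pos hp.pos)
  omega

/-- degree `p + 1` -/
theorem degree_one (A : AS G Ω T) {p e : ℕ} (hp : p.Prime) (hc : Nat.card Ω = p ^ 1 + 1) {H : Subgroup G}
    (hH : IsMultiplyPretransitive H Ω 2) (he : H.index = p ^ e) : e = 0 := by
  have := A.finG
  have h1 := factorization_two A hp hc hH he
  have h5 := A.five_le
  rw [hc, pow_one] at h5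
  have h2 : (Nat.card G).factorization p ≤ (p + 1).factorial.factorization p := by
    have h3 := card_dvd_factorial A
    rw [hc, pow_one] at h3
    exact (Nat.factorization_le_iff_dvd Nat.card_pos.ne' (Nat.factorial_ne_zero _)).2 h3 p
  have h3 : (p + 1).factorial.factorization p = 1 := by
    obtain ⟨q, rfl⟩ : ∃ q, p = q + 1 := ⟨p - 1, by omega⟩
    have e1 : (q + 1 + 1).factorization (q + 1) = 0 := by
      apply Nat.factorization_eq_zero_of_not_dvd
      intro h
      have h6 : q + 1 ∣ 1 := by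
        have := Nat.dvd_sub h (dvd_refl (q + 1))
        rwa [show q + 1 + 1 - (q + 1) = 1 by omega] at this
      have := Nat.le_of_dvd one_pos h6
      omega
    have e2 : q.factorial.factorization (q + 1) = 0 := by
      apply Nat.factorization_eq_zero_of_not_dvd
      intro h
      have := (hp.dvd_factorial).1 h
      omega
    rw [Nat.factorial_succ, Nat.factorial_succ, Nat.factorization_mul (by omega) (by positivity),
      Nat.factorization_mul (by omega) (Nat.factorial_ne_zero _), Finsupp.add_apply, Finsupp.add_apply, hp.factorization_self,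
      e1, e2]
    norm_num
  omega

/-- `|G : T|` divides `|Out T|` -/
theorem index_dvd_out (A : AS G Ω T) : T.index ∣ Nat.card (Cfsg.Out ↥T) := by
  have := A.finG
  have := A.finT
  have := A.simple
  have hT := A.normal
  have h1 := Cfsg.Agent.H934.OutB.card_out_mul ↥T A.nonab
  have hinj : Function.Injective (MulAut.conjNormal : G →* MulAut ↥T) := by
    rw [← MonoidHom.ker_eq_bot_iff, eq_bot_iff]
    intro g hg
    rw [← A.cent, Subgroup.mem_centralizer_iff]
    intro t ht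
    rw [MonoidHom.mem_ker] at hg
    have h2 := congrArg (fun f : MulAut ↥T => ((f ⟨t, ht⟩ : ↥T) : G)) hg
    have h3 : g * t * g⁻¹ = t := h2
    calc t * g = (g * t * g⁻¹) * g := by rw [h3]
      _ = g * t := by group
  have h2 : Nat.card G ∣ Nat.card (MulAut ↥T) := Subgroup.card_dvd_of_injective _ hinj
  rw [← h1, ← T.card_mul_index, mul_comm] at h2
  exact Nat.dvd_of_mul_dvd_mul_right Nat.card_pos h2

/-- the `p`-part of `|G : T|` when `|Out T| = g * f` with `p ∤ g` -/
theorem ppart_le (A : AS G Ω T) {p g f : ℕ} (h : Nat.card (Cfsg.Out ↥T) = g * f) (hg : Nat.Coprime p g)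
    (hf : 0 < f) : p ^ T.index.factorization p ≤ f := by
  have h1 : p ^ T.index.factorization p ∣ g * f := h ▸ (Nat.ordProj_dvd _ _).trans (index_dvd_out A)
  exact Nat.le_of_dvd hf ((Nat.Coprime.pow_left _ hg).dvd_of_dvd_mul_left h1)

/-- **a simple transitive group is not a Frobenius group** -/
theorem exists_fix_two (A : AS G Ω T) : ∃ x ∈ T, x ≠ 1 ∧ ∃ a b : Ω, a ≠ b ∧ x • a = a ∧ x • b = b := by
  have := A.finG
  have := A.finT
  have := A.finΩ
  have := A.simple
  have hT := A.normal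
  have htr := A.transitive
  have hF := A.faithfulT
  have hnt := A.nontrivialΩ
  by_contra hcon
  push Not at hcon
  obtain ⟨a⟩ : Nonempty Ω := inferInstance
  have hreg : stabilizer T a ≠ ⊥ := by
    intro h
    have hall : ∀ b : Ω, stabilizer T b = ⊥ := by
      intro b
      obtain ⟨g, rfl⟩ := _root_.MulAction.exists_smul_eq T a b
      rw [stabilizer_smul_eq_stabilizer_map_conj, h, Subgroup.map_bot]
    have h2 := Cfsg.Agent.PermutationGroups.TwoTransitiveNormal.regular_normal_elementary_abelian A.two' T hall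
    exact A.nonab h2.1
  have htop : stabilizer T a ≠ ⊤ := by
    intro h
    have h1 := A.index_stabilizer a
    rw [h, Subgroup.index_top] at h1
    have := A.five_le
    omega
  have hfr : Cfsg.IsFrobeniusComplement (stabilizer T a) := by
    refine ⟨hreg, htop, fun g hg => ?_⟩
    rw [eq_bot_iff]
    rintro x ⟨hx1, hx2⟩
    rw [Subgroup.mem_bot]
    by_contra hx0
    change x • a = a at hx1
    change x ∈ MulAut.conj g • stabilizer T a at hx2
    have h1 : x • (g • a) = g • a := by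
      rw [Subgroup.mem_pointwise_smul_iff_inv_smul_mem] at hx2
      have h2 : (g⁻¹ * x * g) • a = a := by
        have : ((MulAut.conj g)⁻¹ • x) = g⁻¹ * x * g := by
          rw [← map_inv]
          show MulAut.conj g⁻¹ x = _
          rw [MulAut.conj_apply, inv_inv]
        rw [this] at hx2
        exact hx2
      rw [mul_smul, mul_smul, inv_smul_eq_iff] at h2
      exact h2
    refine hcon x x.2 (fun h => hx0 (Subtype.ext h)) a (g • a) ?_ hx1 h1
    intro h
    exact hg h.symm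
  obtain ⟨N, -, hN, hcomp⟩ := Cfsg.Agent.S0035.result (stabilizer T a) hfr
  rcases IsSimpleGroup.eq_bot_or_eq_top_of_normal N hN with h | h
  · rw [h] at hcomp
    exact htop (Subgroup.isComplement'_bot_left.1 hcomp)
  · rw [h] at hcomp
    exact hreg (Subgroup.isComplement'_top_left.1 hcomp)

/-- the image of a 2-transitive subgroup -/
theorem two_map {H : Subgroup G} (hH : IsMultiplyPretransitive H Ω 2) :
    IsMultiplyPretransitive (H.map (MulAction.toPermHom G Ω)) Ω 2 := by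
  rw [is_two_pretransitive_iff] at hH ⊢
  intro a b c d hab hcd
  obtain ⟨g, h1, h2⟩ := hH hab hcd
  exact ⟨⟨_, ⟨g, g.2, rfl⟩⟩, h1, h2⟩

/-- an element of prime order `r` is conjugate into a subgroup of index prime to `r` -/
theorem exists_conj_mem [Finite G] {r : ℕ} (hr : r.Prime) {H : Subgroup G} (hi : ¬ r ∣ H.index) {g : G} (hg : orderOf g = r) :
    ∃ x : G, x⁻¹ * g * x ∈ H := by
  have := Fact.mk hr
  have hp : IsPGroup r (Subgroup.zpowers g) := by
    refine IsPGroup.of_card (n := 1) ?_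
    rw [Nat.card_zpowers, hg, pow_one]
  obtain ⟨⟨x⟩, hx⟩ := hp.nonempty_fixed_point_of_prime_not_dvd_card (G ⧸ H) hi
  have h1 : (⟨g, Subgroup.mem_zpowers g⟩ : Subgroup.zpowers g) • (QuotientGroup.mk x : G ⧸ H) = QuotientGroup.mk x := hx _
  have h2 : (QuotientGroup.mk (g * x) : G ⧸ H) = QuotientGroup.mk x := h1
  refine ⟨x, ?_⟩
  have h3 := QuotientGroup.eq.1 h2.symm
  rwa [← mul_assoc] at h3

/-- **the alternating groups** -/
theorem alt_case (A : AS G Ω T) {p a e : ℕ} (hp : p.Prime) (ha : 2 ≤ a) (hc : Nat.card Ω = p ^ a + 1) {H : Subgroup G}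
    (hH : IsMultiplyPretransitive H Ω 2) (he : H.index = p ^ e) (hT : 2 * Nat.card ↥T = (Nat.card Ω).factorial) :
    T ≤ H ∧ p ^ e ≤ 2 := by
  classical
  have := A.finG
  have := A.finΩ
  have := A.faithful
  have := A.nontrivialΩ
  have h5 := A.five_le
  have := Fintype.ofFinite Ω
  have hinj : Function.Injective (MulAction.toPermHom G Ω) := MulAction.toPerm_injective
  have hcT : Nat.card ↥(T.map (MulAction.toPermHom G Ω)) = Nat.card ↥T :=
    (Nat.card_congr (T.equivMapOfInjective _ hinj).toEquiv).symm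
  have hA : T.map (MulAction.toPermHom G Ω) = alternatingGroup Ω := by
    apply Equiv.Perm.eq_alternatingGroup_of_index_eq_two
    have h1 := (T.map (MulAction.toPermHom G Ω)).card_mul_index
    rw [Nat.card_perm, ← hT, hcT, mul_comm 2] at h1
    exact Nat.eq_of_mul_eq_mul_left Nat.card_pos h1
  have hprim : IsPreprimitive (H.map (MulAction.toPermHom G Ω)) Ω :=
    isPreprimitive_of_is_two_pretransitive (two_map hH)
  -- an `r`-cycle in the image of `H`
  have hcyc : ∀ r : ℕ, r.Prime → r ≠ 2 → r ≠ p → r ≤ Nat.card Ω →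
      ∃ σ ∈ H.map (MulAction.toPermHom G Ω), σ.cycleType = {r} := by
    intro r hr hr2 hrp hrn
    obtain ⟨σ, hσ⟩ := (Equiv.Perm.exists_with_cycleType_iff (α := Ω) (m := {r})).2
      ⟨by rw [Multiset.sum_singleton, ← Nat.card_eq_fintype_card]; exact hrn,
        fun x hx => by rw [Multiset.mem_singleton.1 hx]; exact hr.two_le⟩
    have hσA : σ ∈ alternatingGroup Ω := by
      rw [Equiv.Perm.mem_alternatingGroup, Equiv.Perm.sign_of_cycleType, hσ, Multiset.sum_singleton, Multiset.card_singleton]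
      have : Even (r + 1) := (hr.odd_of_ne_two hr2).add_one
      exact this.neg_one_pow
    rw [← hA] at hσA
    obtain ⟨g, hgT, rfl⟩ := hσA
    have hord : orderOf g = r := by
      rw [← orderOf_injective _ hinj g, ← Equiv.Perm.lcm_cycleType, hσ, Multiset.lcm_singleton]
      exact normalize_eq r
    obtain ⟨x, hx⟩ := exists_conj_mem hr (H := H) (by
      rw [he]
      intro h
      exact hrp ((Nat.prime_dvd_prime_iff_eq hr hp).1 (hr.dvd_of_dvd_pow h))) hord
    refine ⟨_, ⟨_, hx, rfl⟩, ?_⟩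
    rw [map_mul, map_mul, map_inv]
    have := Equiv.Perm.cycleType_conj (τ := (MulAction.toPermHom G Ω x)⁻¹) (σ := MulAction.toPermHom G Ω g)
    rw [inv_inv] at this
    rw [this, hσ]
  have hle : alternatingGroup Ω ≤ H.map (MulAction.toPermHom G Ω) := by
    by_cases h3 : p = 3
    · obtain ⟨σ, hσ, hσc⟩ := hcyc 5 (by norm_num) (by norm_num) (by rw [h3]; norm_num) h5
      have h10 : 10 ≤ Nat.card Ω := by
        rw [hc, h3]
        have : 3 ^ 2 ≤ 3 ^ a := Nat.pow_le_pow_right (by norm_num) ha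
        omega
      refine Cfsg.Agent.S0713.result _ hprim (p := 5) (by norm_num) (by rw [← Nat.card_eq_fintype_card]; omega)
        (by rw [← Nat.card_eq_fintype_card]; omega) (g := σ) ?_ ?_ hσ
      · rw [← Equiv.Perm.card_cycleType_eq_one, hσc, Multiset.card_singleton]
      · rw [← Equiv.Perm.sum_cycleType, hσc, Multiset.sum_singleton]
    · obtain ⟨σ, hσ, hσc⟩ := hcyc 3 (by norm_num) (by norm_num) (fun h => h3 h.symm) (by omega)
      exact Equiv.Perm.alternatingGroup_le_of_isPreprimitive_of_isThreeCycle_mem hprim hσc hσ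
  have hTH : T ≤ H := by
    rw [← hA] at hle
    exact (Subgroup.map_le_map_iff_of_injective hinj).1 hle
  refine ⟨hTH, ?_⟩
  have h1 := card_dvd_factorial A
  rw [← hT, ← T.card_mul_index, mul_comm 2] at h1
  have h2 : T.index ∣ 2 := Nat.dvd_of_mul_dvd_mul_left Nat.card_pos h1
  rw [← he]
  exact Nat.le_of_dvd (by norm_num) ((Subgroup.index_dvd_of_le hTH).trans h2)

end

end Cfsg.Agent.H803.BP
end

-- part: H803/BP/Rows
section
/-!
# S3414: 2-transitive subgroups of `p`-power index in degree `p ^ a + 1` (helper803)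

`main` : for an almost simple 2-transitive group `G` of degree `p ^ a + 1` with socle `T` and a 2-transitive subgroup
`H` of index `p ^ e` : `T ≤ H` and `p ^ e ≤ max a 2`.
-/

set_option autoImplicit false
set_option linter.unusedSectionVars false

namespace Cfsg.Agent.H803.BP

open Subgroup MulAction Cfsg.Agent.H384.TwoTrans

universe u v

/-! ### arithmetic -/

theorem fac_of_mul {p a N c K : ℕ} (hp : p.Prime) (h : N * c = p ^ a * K) (hN : ¬ p ∣ N) (hK : ¬ p ∣ K) :
    c.factorization p = a := by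
  have hK0 : K ≠ 0 := fun h0 => hK (h0 ▸ dvd_zero p)
  have hN0 : N ≠ 0 := fun h0 => hN (h0 ▸ dvd_zero p)
  have hc0 : c ≠ 0 := by
    intro h0
    rw [h0, Nat.mul_zero] at h
    exact (Nat.mul_ne_zero (pow_ne_zero _ hp.ne_zero) hK0) h.symm
  have h1 := congrArg (fun x => x.factorization p) h
  rw [Nat.factorization_mul hN0 hc0, Nat.factorization_mul (pow_ne_zero _ hp.ne_zero) hK0, Finsupp.add_apply, Finsupp.add_apply,
    Nat.factorization_eq_zero_of_not_dvd hN, Nat.factorization_eq_zero_of_not_dvd hK, hp.factorization_pow,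
    Finsupp.single_eq_same] at h1
  omega

theorem not_dvd_pred {p q : ℕ} (hp : p.Prime) (hq : p ∣ q) (h0 : 0 < q) : ¬ p ∣ q - 1 := by
  intro h
  have h1 := Nat.dvd_sub hq h
  rw [show q - (q - 1) = 1 by omega] at h1
  exact hp.one_lt.ne' (Nat.dvd_one.1 h1)

theorem not_dvd_succ {p q : ℕ} (hp : p.Prime) (hq : p ∣ q) : ¬ p ∣ q + 1 := by
  intro h
  have h1 := Nat.dvd_sub h hq
  rw [show q + 1 - q = 1 by omega] at h1
  exact hp.one_lt.ne' (Nat.dvd_one.1 h1)

/-- `(q^d - 1)/(q - 1) = p^a + 1` only for `d = 2`, `q = p^a` -/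
theorem psl_num {p a q d : ℕ} (hp : p.Prime) (hd : 2 ≤ d) (hq : 2 ≤ q) (h : (p ^ a + 1) * (q - 1) = q ^ d - 1) :
    d = 2 ∧ q = p ^ a := by
  obtain ⟨k, rfl⟩ : ∃ k, d = k + 2 := ⟨d - 2, by omega⟩
  obtain ⟨r, rfl⟩ : ∃ r, q = r + 1 := ⟨q - 1, by omega⟩
  have h1 := Nat.geomSum_eq (m := r + 1) (by omega) (k + 2)
  have h2 : (∑ i ∈ Finset.range (k + 2), (r + 1) ^ i) * r = (r + 1) ^ (k + 2) - 1 := by
    have := Nat.pred_mul_geom_sum_le
    have h3 := geom_sum_mul_add r (k + 2)
    omega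
  rw [Nat.add_sub_cancel] at h
  have hr : 0 < r := by omega
  have h3 : p ^ a + 1 = ∑ i ∈ Finset.range (k + 2), (r + 1) ^ i := by
    apply Nat.eq_of_mul_eq_mul_right hr
    rw [h, h2]
  rw [Finset.sum_range_succ'] at h3
  simp only [pow_zero] at h3
  have h4 : p ^ a = (r + 1) * ∑ i ∈ Finset.range (k + 1), (r + 1) ^ i := by
    rw [Finset.mul_sum]
    have : ∑ i ∈ Finset.range (k + 1), (r + 1) ^ (i + 1) = ∑ i ∈ Finset.range (k + 1), (r + 1) * (r + 1) ^ i :=
      Finset.sum_congr rfl fun i _ => by rw [pow_succ']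
    omega
  obtain ⟨c, -, hc⟩ : ∃ c ≤ a, r + 1 = p ^ c := (Nat.dvd_prime_pow hp).1 (h4 ▸ Dvd.intro _ rfl)
  obtain ⟨c', -, hc'⟩ : ∃ c' ≤ a, ∑ i ∈ Finset.range (k + 1), (r + 1) ^ i = p ^ c' :=
    (Nat.dvd_prime_pow hp).1 (h4 ▸ Dvd.intro_left _ rfl)
  have hc0 : c ≠ 0 := by
    rintro rfl
    rw [pow_zero] at hc
    omega
  rcases Nat.eq_zero_or_pos k with rfl | hk
  · refine ⟨rfl, ?_⟩
    rw [h4]
    simp
  · exfalso
    rw [Finset.sum_range_succ'] at hc'
    simp only [pow_zero] at hc'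
    obtain ⟨k', rfl⟩ : ∃ k', k = k' + 1 := ⟨k - 1, by omega⟩
    have h5 : ∑ i ∈ Finset.range (k' + 1), (r + 1) ^ (i + 1) = (r + 1) * ∑ i ∈ Finset.range (k' + 1), (r + 1) ^ i := by
      rw [Finset.mul_sum]
      exact Finset.sum_congr rfl fun i _ => by rw [pow_succ']
    rw [h5] at hc'
    have h6 : 0 < ∑ i ∈ Finset.range (k' + 1), (r + 1) ^ i := by
      rw [Finset.sum_range_succ']
      simp
    have hp1 : p ∣ (r + 1) * ∑ i ∈ Finset.range (k' + 1), (r + 1) ^ i := by
      rw [hc]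
      exact Dvd.dvd.mul_right (dvd_pow_self p hc0) _
    have hc'0 : c' ≠ 0 := by
      rintro rfl
      rw [pow_zero] at hc'
      have : 0 < (r + 1) * ∑ i ∈ Finset.range (k' + 1), (r + 1) ^ i := Nat.mul_pos (by omega) h6
      omega
    exact not_dvd_succ hp hp1 (hc' ▸ dvd_pow_self p hc'0)

/-- powers of a prime with a given value, exponent at least 2 -/
theorem pow_ne_of_sq {p a N : ℕ} (hp : p.Prime) (ha : 2 ≤ a) (hN : Squarefree N) : p ^ a ≠ N := by
  intro h
  have h1 : p * p ∣ N := by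
    rw [← h, ← pow_two]
    exact pow_dvd_pow p ha
  have := hN p h1
  exact hp.one_lt.ne' (Nat.isUnit_iff.1 this)

theorem pow_ne_of_two {p a N r s : ℕ} (hp : p.Prime) (hr : r.Prime) (hs : s.Prime) (hrs : r ≠ s) (h1 : r ∣ N) (h2 : s ∣ N) :
    p ^ a ≠ N := by
  intro h
  have h3 := (Nat.prime_dvd_prime_iff_eq hr hp).1 (hr.dvd_of_dvd_pow (h ▸ h1))
  have h4 := (Nat.prime_dvd_prime_iff_eq hs hp).1 (hs.dvd_of_dvd_pow (h ▸ h2))
  exact hrs (h3.trans h4.symm)

/-- the degrees of `Sp_2m(2)` -/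
theorem sp_num {p a m : ℕ} (hp : p.Prime) (hm : 3 ≤ m)
    (h : p ^ a + 1 = 2 ^ (m - 1) * (2 ^ m + 1) ∨ p ^ a + 1 = 2 ^ (m - 1) * (2 ^ m - 1)) : m = 3 ∧ p ^ a = 27 := by
  obtain ⟨k, rfl⟩ : ∃ k, m = k + 3 := ⟨m - 3, by omega⟩
  have e1 : 2 ^ (k + 3) = 2 * 2 ^ (k + 2) := by rw [pow_succ]; ring
  have e2 : 2 ^ (k + 2) = 4 * 2 ^ k := by rw [pow_add]; ring
  rw [show k + 3 - 1 = k + 2 by omega, e1, e2] at h
  have hx : 0 < 2 ^ k := by positivity
  set x := 2 ^ k with hxdef
  -- powers of `p` dividing `p ^ a`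
  have hthree : ∀ u v : ℕ, 1 < u → 1 < v → u ∣ p ^ a → v ∣ p ^ a → (u = 2 * v + 3 ∨ u + 3 = 2 * v) →
      p = 3 ∧ (u = 3 ∨ v = 3) := by
    intro u v hu hv hu' hv' huv
    obtain ⟨i, -, rfl⟩ := (Nat.dvd_prime_pow hp).1 hu'
    obtain ⟨j, -, rfl⟩ := (Nat.dvd_prime_pow hp).1 hv'
    have hi : i ≠ 0 := by rintro rfl; simp at hu
    have hj : j ≠ 0 := by rintro rfl; simp at hv
    have h3 : p ∣ 3 := by
      have d1 : p ∣ p ^ i := dvd_pow_self p hi
      have d2 : p ∣ 2 * p ^ j := Dvd.dvd.mul_left (dvd_pow_self p hj) 2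
      rcases huv with h | h
      · rw [h] at d1
        exact (Nat.dvd_add_right d2).1 d1
      · rw [← h] at d2
        exact (Nat.dvd_add_right d1).1 d2
    have hp3 : p = 3 := (Nat.prime_dvd_prime_iff_eq hp Nat.prime_three).1 h3
    refine ⟨hp3, ?_⟩
    by_contra hcon
    push Not at hcon
    subst hp3
    have hi2 : 2 ≤ i := by
      rcases Nat.lt_or_ge i 2 with h | h
      · exact absurd (by rw [show i = 1 by (clear * - hi h; omega), pow_one] : 3 ^ i = 3) hcon.1
      · exact h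
    have hj2 : 2 ≤ j := by
      rcases Nat.lt_or_ge j 2 with h | h
      · exact absurd (by rw [show j = 1 by (clear * - hj h; omega), pow_one] : 3 ^ j = 3) hcon.2
      · exact h
    have d1 : 9 ∣ 3 ^ i := pow_dvd_pow 3 hi2
    have d2 : 9 ∣ 3 ^ j := pow_dvd_pow 3 hj2
    obtain ⟨c, hc⟩ := d1
    obtain ⟨c', hc'⟩ := d2
    omega
  rcases h with h | h
  · exfalso
    have h1 : p ^ a = (8 * x - 1) * (4 * x + 1) := by
      obtain ⟨y, hy⟩ : ∃ y, 8 * x = y + 1 := ⟨8 * x - 1, by omega⟩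
      have h2 : 2 * (4 * x) = y + 1 := by rw [← hy]; ring
      rw [h2] at h
      rw [hy, Nat.add_sub_cancel]
      have h3 : 4 * x * (y + 1 + 1) = 4 * x * y + 4 * x * 2 := by ring
      have h4 : y * (4 * x + 1) = 4 * x * y + y := by ring
      omega
    have h2 := hthree (8 * x - 1) (4 * x + 1) (by omega) (by omega) (h1 ▸ Dvd.intro _ rfl) (h1 ▸ Dvd.intro_left _ rfl)
      (by right; omega)
    omega
  · have h1 : p ^ a = (8 * x + 1) * (4 * x - 1) := by
      obtain ⟨y, hy⟩ : ∃ y, 4 * x = y + 1 := ⟨4 * x - 1, by omega⟩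
      have h2 : 8 * x = 2 * y + 2 := by omega
      rw [hy] at h ⊢
      rw [h2, Nat.add_sub_cancel]
      have h3 : (y + 1) * (2 * (y + 1) - 1) = (y + 1) * (2 * y + 1) := by
        congr 1
      have h4 : (y + 1) * (2 * y + 1) = (2 * y + 2 + 1) * y + 1 := by ring
      omega
    have h2 := hthree (8 * x + 1) (4 * x - 1) (by omega) (by omega) (h1 ▸ Dvd.intro _ rfl) (h1 ▸ Dvd.intro_left _ rfl)
      (by left; omega)
    have hx1 : x = 1 := by omega
    have hk : k = 0 := by
      by_contra hk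
      have : 2 ^ 1 ≤ 2 ^ k := Nat.pow_le_pow_right (by norm_num) (by omega)
      omega
    refine ⟨by omega, ?_⟩
    rw [h1, hx1]

section

variable {G : Type u} {Ω : Type v} [Group G] [MulAction G Ω] {T : Subgroup G}

/-- rank one groups in natural degree -/
theorem rank_one (A : AS G Ω T) {p a e : ℕ} (hp : p.Prime) (hc : Nat.card Ω = p ^ a + 1) {H : Subgroup G}
    (hH : IsMultiplyPretransitive H Ω 2) (he : H.index = p ^ e) (hv : (Nat.card ↥T).factorization p = a) {g f : ℕ}
    (ho : Nat.card (Cfsg.Out ↥T) = g * f) (hg : Nat.Coprime p g) (hf : 0 < f) (hfa : f ≤ a) :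
    T ≤ H ∧ p ^ e ≤ max a 2 := by
  have h1 := (ppart_le A ho hg hf).trans hfa
  have h2 : T ≤ H := by
    apply key A hp hc hH he
    rw [hv, mul_comm]
    exact Nat.mul_le_mul_right _ h1
  exact ⟨h2, ((e_le A hp he h2).trans h1).trans (le_max_left _ _)⟩

theorem psl_two (A : AS G Ω T) {p a e : ℕ} (hp : p.Prime) (hc : Nat.card Ω = p ^ a + 1) {H : Subgroup G}
    (hH : IsMultiplyPretransitive H Ω 2) (he : H.index = p ^ e) {F : Type} [Field F] [Fintype F]
    (f : Nonempty (T ≃* Matrix.ProjectiveSpecialLinearGroup (Fin 2) F)) (hF : Fintype.card F = p ^ a) (h4 : 4 ≤ p ^ a) :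
    T ≤ H ∧ p ^ e ≤ max a 2 := by
  have := A.finT
  have := A.simple
  have := Fact.mk hp
  obtain ⟨f⟩ := f
  have ha : 1 ≤ a := by
    by_contra h0
    rw [show a = 0 by omega] at h4
    simp at h4
  have hcT : Nat.card ↥T = Nat.card (Matrix.ProjectiveSpecialLinearGroup (Fin 2) F) := Nat.card_congr f.toEquiv
  have h1 := Cfsg.Agent.S0243.result (F := F) rfl 2 le_rfl
  rw [hF, ← hcT, Fin.prod_univ_two] at h1
  simp only [Fin.val_zero, Fin.val_one, pow_zero, pow_one] at h1
  have hpq : p ∣ p ^ a := dvd_pow_self p (by omega)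
  have hq1 : ¬ p ∣ p ^ a - 1 := not_dvd_pred hp hpq (by positivity)
  have hq2 : ¬ p ∣ (p ^ a) ^ 2 - 1 := not_dvd_pred hp (dvd_pow hpq two_ne_zero) (by positivity)
  have hg : ¬ p ∣ Nat.gcd 2 (p ^ a - 1) := fun h => hq1 (h.trans (Nat.gcd_dvd_right _ _))
  have e1 : (p ^ a) ^ 2 - p ^ a = p ^ a * (p ^ a - 1) := by
    rw [Nat.mul_sub, mul_one, pow_two]
  have hv : (Nat.card ↥T).factorization p = a := by
    refine fac_of_mul hp (N := Nat.gcd 2 (p ^ a - 1) * (p ^ a - 1)) (K := ((p ^ a) ^ 2 - 1) * (p ^ a - 1)) ?_ ?_ ?_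
    · rw [mul_assoc, h1, e1]; ring
    · exact fun h => (hp.dvd_mul.1 h).elim hg hq1
    · exact fun h => (hp.dvd_mul.1 h).elim hq2 hq1
  have h2 := Cfsg.Agent.S0813.result (F := F) p a ha hF 2 le_rfl (fun _ => h4)
  have h3 : Nat.card (Matrix.ProjGenLinGroup (Fin 2) F) =
      Nat.gcd 2 (p ^ a - 1) * Nat.card (Matrix.ProjectiveSpecialLinearGroup (Fin 2) F) := by
    have e2 : Nat.card (Matrix.ProjGenLinGroup (Fin 2) F) * (Fintype.card F - 1) = Nat.card (Matrix.GeneralLinearGroup (Fin 2) F) :=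
      Cfsg.Agent.ClassicalGeometry.PSL2Basic.card_PGL_mul (Fin 2) F
    rw [Matrix.card_GL_field, ← Cfsg.Agent.S0243.result (F := F) rfl 2 le_rfl, hF] at e2
    have h5 : 0 < p ^ a - 1 := by omega
    apply Nat.eq_of_mul_eq_mul_right h5
    rw [e2]; ring
  rw [if_pos rfl, one_mul, h3, ← mul_assoc, ← hcT] at h2
  have h4' : Nat.card (MulAut ↥T) = Nat.card (MulAut (Matrix.ProjectiveSpecialLinearGroup (Fin 2) F)) :=
    Nat.card_congr (MulAut.congr f).toEquiv
  have h5 := Cfsg.Agent.H934.OutB.card_out_of_aut A.nonab (h4'.trans h2)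
  rw [mul_comm] at h5
  exact rank_one A hp hc hH he hv h5 ((Nat.Prime.coprime_iff_not_dvd hp).2 hg) (by omega) le_rfl

theorem psu_three (A : AS G Ω T) {p a e : ℕ} (hp : p.Prime) (hc : Nat.card Ω = p ^ a + 1) {H : Subgroup G}
    (hH : IsMultiplyPretransitive H Ω 2) (he : H.index = p ^ e) {F : Type} [Field F] [Fintype F] {q : ℕ} (hq : 3 ≤ q)
    (hF : Fintype.card F = q ^ 2) (f : Nonempty (T ≃* Cfsg.PSU 3 F q)) (hqa : q ^ 3 = p ^ a) :
    T ≤ H ∧ p ^ e ≤ max a 2 := by
  have := A.finT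
  have := A.simple
  have := Fact.mk hp
  obtain ⟨f⟩ := f
  obtain ⟨b, -, hb⟩ : ∃ b ≤ a, q = p ^ b := (Nat.dvd_prime_pow hp).1 (hqa ▸ dvd_pow_self q (by norm_num))
  have hb0 : 1 ≤ b := by
    by_contra h0
    rw [show b = 0 by omega] at hb
    simp at hb
    omega
  have hab : a = 3 * b := by
    rw [hb, ← pow_mul] at hqa
    have := Nat.pow_right_injective hp.two_le hqa
    omega
  have hcT : Nat.card ↥T = Nat.card (Cfsg.PSU 3 F q) := Nat.card_congr f.toEquiv
  have h1 := Cfsg.Agent.S0280.result (F := F) hF 3 (by norm_num)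
  rw [← hcT, Finset.prod_range_succ, Finset.prod_range_succ, Finset.prod_range_one] at h1
  norm_num only [_root_.pow_one, _root_.ite_true, _root_.ite_false] at h1
  have hpq : p ∣ q := hb ▸ dvd_pow_self p (by omega)
  have hq0 : 0 < q := by omega
  have hv : (Nat.card ↥T).factorization p = a := by
    refine fac_of_mul hp (N := Nat.gcd 3 (q + 1) * (q + 1)) (K := (q + 1) * (q ^ 2 - 1) * (q ^ 3 + 1)) ?_ ?_ ?_
    · rw [mul_assoc, h1, ← hqa]
    · intro h
      rcases hp.dvd_mul.1 h with h | h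
      · exact not_dvd_succ hp hpq (h.trans (Nat.gcd_dvd_right _ _))
      · exact not_dvd_succ hp hpq h
    · intro h
      rcases hp.dvd_mul.1 h with h | h
      · rcases hp.dvd_mul.1 h with h | h
        · exact not_dvd_succ hp hpq h
        · exact not_dvd_pred hp (dvd_pow hpq two_ne_zero) (by positivity) h
      · exact not_dvd_succ hp (dvd_pow hpq three_ne_zero) h
  have h2 := Cfsg.Agent.S0815.result (F := F) p b hb0 hb hF 3 le_rfl (by omega)
  rw [← hcT] at h2
  have h4' : Nat.card (MulAut ↥T) = Nat.card (MulAut (Cfsg.PSU 3 F q)) := Nat.card_congr (MulAut.congr f).toEquiv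
  have h5 := Cfsg.Agent.H934.OutB.card_out_of_aut A.nonab (h4'.trans h2)
  refine rank_one A hp hc hH he hv h5 ?_ (by omega) (by omega)
  rw [Nat.Prime.coprime_iff_not_dvd hp]
  exact fun h => not_dvd_succ hp hpq (h.trans (Nat.gcd_dvd_right _ _))

theorem sz (A : AS G Ω T) {p a e : ℕ} (hp : p.Prime) (hc : Nat.card Ω = p ^ a + 1) {H : Subgroup G}
    (hH : IsMultiplyPretransitive H Ω 2) (he : H.index = p ^ e) {F : Type} [Field F] [Fintype F] {m : ℕ} (hm : 1 ≤ m)
    (hF : Fintype.card F = 2 ^ (2 * m + 1)) (f : Nonempty (T ≃* ↥(Cfsg.Lie.Sz F (2 ^ (m + 1)))))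
    (hqa : Fintype.card F ^ 2 = p ^ a) : T ≤ H ∧ p ^ e ≤ max a 2 := by
  have := A.finT
  have := A.simple
  obtain ⟨f⟩ := f
  rw [hF] at hqa
  have hp2 : p = 2 := by
    have h2 : 2 ∣ p ^ a := hqa ▸ dvd_pow (dvd_pow_self 2 (by omega)) two_ne_zero
    exact ((Nat.prime_dvd_prime_iff_eq Nat.prime_two hp).1 (Nat.prime_two.dvd_of_dvd_pow h2)).symm
  subst hp2
  have hab : a = 2 * (2 * m + 1) := by
    rw [← pow_mul] at hqa
    have := Nat.pow_right_injective le_rfl hqa
    omega
  have hcT : Nat.card ↥T = Nat.card ↥(Cfsg.Lie.Sz F (2 ^ (m + 1))) := Nat.card_congr f.toEquiv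
  have h1 := (Cfsg.Agent.S1163.result hm hF).1
  rw [← hcT] at h1
  have hpq : 2 ∣ 2 ^ (2 * m + 1) := dvd_pow_self 2 (by omega)
  have hv : (Nat.card ↥T).factorization 2 = a := by
    refine fac_of_mul hp (N := 1) (K := (2 ^ (2 * m + 1) - 1) * ((2 ^ (2 * m + 1)) ^ 2 + 1)) ?_ (by norm_num) ?_
    · rw [one_mul, h1, ← hqa]; ring
    · intro h
      rcases hp.dvd_mul.1 h with h | h
      · exact not_dvd_pred hp hpq (by positivity) h
      · exact not_dvd_succ hp (dvd_pow hpq two_ne_zero) h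
  have h2 : Nat.card (Cfsg.Out ↥T) = 1 * (2 * m + 1) := by
    rw [one_mul, Cfsg.Agent.H934.OutB.card_out_congr f]
    exact Cfsg.Agent.S2126.result hm hF
  exact rank_one A hp hc hH he hv h2 (Nat.coprime_one_right _) (by omega) (by omega)

theorem ree (A : AS G Ω T) {p a e : ℕ} (hp : p.Prime) (hc : Nat.card Ω = p ^ a + 1) {H : Subgroup G}
    (hH : IsMultiplyPretransitive H Ω 2) (he : H.index = p ^ e) {K : Type} [Field K] [Fintype K] {m : ℕ} (hm : 1 ≤ m)
    (hK : Fintype.card K = 3 ^ (2 * m + 1)) (f : Nonempty (T ≃* ↥(Cfsg.Lie.twistedG2 K (3 ^ m))))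
    (hqa : Fintype.card K ^ 3 = p ^ a) : T ≤ H ∧ p ^ e ≤ max a 2 := by
  have := A.finT
  have := A.simple
  obtain ⟨f⟩ := f
  rw [hK] at hqa
  have hp3 : p = 3 := by
    have h2 : 3 ∣ p ^ a := hqa ▸ dvd_pow (dvd_pow_self 3 (by omega)) three_ne_zero
    exact ((Nat.prime_dvd_prime_iff_eq Nat.prime_three hp).1 (Nat.prime_three.dvd_of_dvd_pow h2)).symm
  subst hp3
  have hab : a = 3 * (2 * m + 1) := by
    rw [← pow_mul] at hqa
    have := Nat.pow_right_injective (show 2 ≤ 3 by norm_num) hqa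
    omega
  have hcT : Nat.card ↥T = Nat.card ↥(Cfsg.Lie.twistedG2 K (3 ^ m)) := Nat.card_congr f.toEquiv
  have h1 := Cfsg.Agent.S1069.result hK
  rw [← hcT] at h1
  have hpq : 3 ∣ 3 ^ (2 * m + 1) := dvd_pow_self 3 (by omega)
  have hv : (Nat.card ↥T).factorization 3 = a := by
    refine fac_of_mul hp (N := 1) (K := (3 ^ (2 * m + 1) - 1) * ((3 ^ (2 * m + 1)) ^ 3 + 1)) ?_ (by norm_num) ?_
    · rw [one_mul, h1, ← hqa]; ring
    · intro h
      rcases hp.dvd_mul.1 h with h | h
      · exact not_dvd_pred hp hpq (by positivity) h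
      · exact not_dvd_succ hp (dvd_pow hpq three_ne_zero) h
  have h2 : Nat.card (Cfsg.Out ↥T) = 1 * (2 * m + 1) := by
    rw [one_mul, Cfsg.Agent.H934.OutB.card_out_congr f]
    exact Cfsg.Agent.S2127.result hm hK
  exact rank_one A hp hc hH he hv h2 (Nat.coprime_one_right _) (by omega) (by omega)

theorem sp_six (A : AS G Ω T) {p a e : ℕ} (hp : p.Prime) (hc : Nat.card Ω = p ^ a + 1) {H : Subgroup G}
    (hH : IsMultiplyPretransitive H Ω 2) (he : H.index = p ^ e) {F : Type} [Field F] [Fintype F]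
    (hF : Fintype.card F = 2) (f : Nonempty (T ≃* Cfsg.PSp 3 F)) (hqa : p ^ a = 27) : T ≤ H ∧ p ^ e ≤ max a 2 := by
  have := A.finT
  have := A.simple
  obtain ⟨f⟩ := f
  have hp3 : p = 3 := by
    have h2 : 3 ∣ p ^ a := hqa ▸ (by norm_num)
    exact ((Nat.prime_dvd_prime_iff_eq Nat.prime_three hp).1 (Nat.prime_three.dvd_of_dvd_pow h2)).symm
  subst hp3
  have hab : a = 3 := Nat.pow_right_injective (show 2 ≤ 3 by norm_num) (hqa.trans (by norm_num : 27 = 3 ^ 3))
  have hcT : Nat.card ↥T = Nat.card (Cfsg.PSp 3 F) := Nat.card_congr f.toEquiv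
  have h1 : Nat.card (Cfsg.PSp 3 F) = 1451520 := by
    have e1 := Cfsg.Agent.S0245.result hF 3
    have e2 := Cfsg.Agent.S0246.result hF 3 (by norm_num)
    have e3 := Subgroup.card_mul_index (Subgroup.center ↥(Matrix.symplecticGroup (Fin 3) F))
    rw [e1, e2] at e3
    rw [Finset.prod_range_succ, Finset.prod_range_succ, Finset.prod_range_one] at e3
    norm_num at e3
    exact e3
  have hv : (Nat.card ↥T).factorization 3 = 4 := by
    refine fac_of_mul hp (N := 1) (K := 17920) ?_ (by norm_num) (by norm_num)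
    rw [one_mul, hcT, h1]; norm_num
  have hp2 : Fact (Nat.Prime 2) := ⟨Nat.prime_two⟩
  have h2 := Cfsg.Agent.S0814.result (F := F) 2 1 le_rfl (by rw [hF]; norm_num) 3 (by norm_num) (by norm_num)
  rw [← hcT] at h2
  norm_num only [_root_.and_true, _root_.ite_false, _root_.mul_one, _root_.one_mul] at h2
  have h4' : Nat.card (MulAut ↥T) = Nat.card (MulAut (Cfsg.PSp 3 F)) := Nat.card_congr (MulAut.congr f).toEquiv
  have h5 := Cfsg.Agent.H934.OutB.card_out_of_aut (n := 1) A.nonab (by rw [h4', h2, one_mul])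
  have h6 := ppart_le A (g := 1) (f := 1) (p := 3) (by rw [h5]) (by norm_num) one_pos
  have h7 : T ≤ H := by
    apply key A hp hc hH he
    rw [hv, hab]
    omega
  exact ⟨h7, ((e_le A hp he h7).trans h6).trans (by omega)⟩

theorem psl_eight (A : AS G Ω T) {p a e : ℕ} (hp : p.Prime) (hc : Nat.card Ω = p ^ a + 1) {H : Subgroup G}
    (hH : IsMultiplyPretransitive H Ω 2) (he : H.index = p ^ e) {F : Type} [Field F] [Fintype F]
    (f : Nonempty (T ≃* Matrix.ProjectiveSpecialLinearGroup (Fin 2) F)) (hF : Fintype.card F = 8) (hqa : p ^ a = 27) :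
    T ≤ H ∧ p ^ e ≤ max a 2 := by
  have := A.finT
  have := A.simple
  obtain ⟨f⟩ := f
  have hp3 : p = 3 := by
    have h2 : 3 ∣ p ^ a := hqa ▸ (by norm_num)
    exact ((Nat.prime_dvd_prime_iff_eq Nat.prime_three hp).1 (Nat.prime_three.dvd_of_dvd_pow h2)).symm
  subst hp3
  have hab : a = 3 := Nat.pow_right_injective (show 2 ≤ 3 by norm_num) (hqa.trans (by norm_num : 27 = 3 ^ 3))
  have hcT : Nat.card ↥T = Nat.card (Matrix.ProjectiveSpecialLinearGroup (Fin 2) F) := Nat.card_congr f.toEquiv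
  have h1 := Cfsg.Agent.S0243.result (F := F) rfl 2 le_rfl
  rw [hF, Fin.prod_univ_two] at h1
  norm_num only [_root_.one_mul, _root_.Fin.coe_ofNat_eq_mod, _root_.pow_zero, _root_.Nat.add_one_sub_one, _root_.pow_one] at h1
  have h1' : Nat.card (Matrix.ProjectiveSpecialLinearGroup (Fin 2) F) = 504 := by omega
  have hv : (Nat.card ↥T).factorization 3 = 2 := by
    refine fac_of_mul hp (N := 1) (K := 56) ?_ (by norm_num) (by norm_num)
    rw [one_mul, hcT, h1']; norm_num
  have hp2 : Fact (Nat.Prime 2) := ⟨Nat.prime_two⟩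
  have h2 := Cfsg.Agent.S0813.result (F := F) 2 3 (by norm_num) (by rw [hF]; norm_num) 2 le_rfl (by norm_num)
  have h3 : Nat.card (Matrix.ProjGenLinGroup (Fin 2) F) = Nat.card (Matrix.ProjectiveSpecialLinearGroup (Fin 2) F) := by
    have e2 : Nat.card (Matrix.ProjGenLinGroup (Fin 2) F) * (Fintype.card F - 1) = Nat.card (Matrix.GeneralLinearGroup (Fin 2) F) :=
      Cfsg.Agent.ClassicalGeometry.PSL2Basic.card_PGL_mul (Fin 2) F
    rw [Matrix.card_GL_field, ← Cfsg.Agent.S0243.result (F := F) rfl 2 le_rfl, hF] at e2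
    norm_num only [_root_.one_mul] at e2
    omega
  rw [if_pos rfl, h3, one_mul, ← hcT] at h2
  have h4' : Nat.card (MulAut ↥T) = Nat.card (MulAut (Matrix.ProjectiveSpecialLinearGroup (Fin 2) F)) :=
    Nat.card_congr (MulAut.congr f).toEquiv
  have h5 := Cfsg.Agent.H934.OutB.card_out_of_aut (n := 3) A.nonab (h4'.trans h2)
  have h6 := ppart_le A (g := 1) (f := 3) (p := 3) (by rw [h5]) (by norm_num) (by norm_num)
  have h7 : T ≤ H := by
    apply key A hp hc hH he
    rw [hv, hab]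
    omega
  exact ⟨h7, ((e_le A hp he h7).trans h6).trans (by omega)⟩

/-- **2-transitive subgroups of `p`-power index in degree `p ^ a + 1`** -/
theorem main (A : AS G Ω T) (hK : Known2 ↥T (Nat.card Ω)) {p a e : ℕ} (hp : p.Prime) (ha : 1 ≤ a)
    (hc : Nat.card Ω = p ^ a + 1) {H : Subgroup G} (hH : IsMultiplyPretransitive H Ω 2) (he : H.index = p ^ e) :
    T ≤ H ∧ p ^ e ≤ max a 2 := by
  rcases eq_or_lt_of_le ha with rfl | ha2
  · have h0 := degree_one A hp hc hH he
    subst h0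
    rw [pow_zero] at he ⊢
    rw [Subgroup.index_eq_one] at he
    exact ⟨he ▸ le_top, by norm_num⟩
  have hcN := hc
  have bad : ∀ {N : ℕ}, Nat.card Ω = N + 1 → Squarefree N → T ≤ H ∧ p ^ e ≤ max a 2 := fun h1 h2 =>
    absurd (by omega : p ^ a = _) (pow_ne_of_sq hp ha2 h2)
  have sq : ∀ n ∈ [5, 7, 10, 11, 14, 21, 22, 23], Squarefree n := by decide +kernel
  generalize hN : Nat.card Ω = N at hK
  cases hK with
  | alt n hn f =>
    obtain ⟨f⟩ := f
    have h1 := alt_case A hp ha2 hc hH he (by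
      have : Nontrivial (Fin N) := Fin.nontrivial_iff_two_le.2 (by omega)
      rw [Nat.card_congr f.toEquiv, two_mul_nat_card_alternatingGroup, Nat.card_perm, Nat.card_eq_fintype_card, Fintype.card_fin,
        hN])
    exact ⟨h1.1, h1.2.trans (le_max_right _ _)⟩
  | psl F d n hd hd2 f hn =>
    rw [← hN, hc] at hn
    obtain ⟨rfl, hF⟩ := psl_num hp hd (Fintype.one_lt_card) hn
    exact psl_two A hp hc hH he f hF (hF ▸ hd2 rfl)
  | sp F m n hF hm f hn =>
    rw [← hN, hc] at hn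
    obtain ⟨rfl, h27⟩ := sp_num hp hm hn
    exact sp_six A hp hc hH he hF f h27
  | psu F q n hq hF f hn => exact psu_three A hp hc hH he hq hF f (by omega)
  | sz F m n hm hF f hn => exact sz A hp hc hH he hm hF f (by omega)
  | ree K m n hm hK f hn => exact ree A hp hc hH he hm hK f (by omega)
  | psl2_8 F hF f => exact psl_eight A hp hc hH he f hF (by omega)
  | psl2_9 F hF f => exact bad (N := 5) hN (sq _ (by simp))
  | psl2_11 F hF f => exact bad (N := 10) hN (sq _ (by simp))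
  | psl4_2 F hF f => exact bad (N := 7) hN (sq _ (by simp))
  | a7 f => exact bad (N := 14) hN (sq _ (by simp))
  | m11 h => exact bad (N := 10) hN (sq _ (by simp))
  | m11' h => exact bad (N := 11) hN (sq _ (by simp))
  | m12 h => exact bad (N := 11) hN (sq _ (by simp))
  | m22 h => exact bad (N := 21) hN (sq _ (by simp))
  | m23 h => exact bad (N := 22) hN (sq _ (by simp))
  | m24 h => exact bad (N := 23) hN (sq _ (by simp))
  | hs h =>
    exact absurd (by omega : p ^ a = 175) (pow_ne_of_two hp Nat.prime_five (by norm_num : Nat.Prime 7) (by norm_num)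
      (by norm_num) (by norm_num))
  | co3 h =>
    exact absurd (by omega : p ^ a = 275) (pow_ne_of_two hp Nat.prime_five (by norm_num : Nat.Prime 11) (by norm_num)
      (by norm_num) (by norm_num))

end

end Cfsg.Agent.H803.BP
end

-- part: H803/BP/PP
section
/-!
# S3414: 2-transitive subgroups of `p`-power index in degree `p ^ a + 1`, permutation groups (helper803)

* `exists_as` : a 2-transitive permutation group `L` which is not affine is almost simple;
* `kill_min` : the (minimal) normal subgroup of such a group contains an element `≠ 1` fixing two points;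
* `pp_of` : `L' ≤ L` 2-transitive of index `p ^ e` in degree `p ^ a + 1`: `L'` contains the socle.
-/

set_option autoImplicit false

namespace Cfsg.Agent.H803.BP

open Subgroup MulAction Cfsg.Agent.H384.TwoTrans Cfsg.Agent.H873.Tits

universe v

variable {Ω : Type v} {L L' : Subgroup (Equiv.Perm Ω)}

theorem twoPre (h : TwoTr L) : IsMultiplyPretransitive L Ω 2 := by
  rw [is_two_pretransitive_iff]
  intro a b c d hab hcd
  obtain ⟨g, hg, h1, h2⟩ := h a b c d hab hcd
  exact ⟨⟨g, hg⟩, h1, h2⟩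

theorem subgroupOf_map (N : Subgroup L) : (N.map L.subtype).subgroupOf L = N := by
  ext x
  constructor
  · rintro ⟨y, hy, hyx⟩
    have : y = x := L.subtype_injective hyx
    rwa [← this]
  · intro hx
    exact ⟨x, hx, rfl⟩

theorem map_le (N : Subgroup L) : N.map L.subtype ≤ L := by
  rintro _ ⟨x, -, rfl⟩
  exact x.2

/-- a 2-transitive permutation group which is not affine is almost simple -/
theorem exists_as [Finite Ω] (h2 : TwoTr L) (h3 : 3 ≤ Nat.card Ω) (hA : ¬ Aff L) : ∃ T : Subgroup L, AS L Ω T := by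
  have : FaithfulSMul L Ω := ⟨fun {a b} h => Subtype.ext (Equiv.ext h)⟩
  rcases reduction (twoPre h2) h3 with ⟨N, hN, -, hNc, -, htr, hreg⟩ | ⟨T, A⟩
  · exfalso
    apply hA
    have hinj := L.subtype_injective
    let e : N ≃* N.map L.subtype := N.equivMapOfInjective _ hinj
    refine ⟨N.map L.subtype, map_le N, ?_, ⟨⟨fun x y => e.symm.injective (by rw [map_mul, map_mul, hNc.is_comm.comm])⟩⟩,
      ⟨?_⟩, ?_⟩
    · rw [subgroupOf_map]
      exact hN
    · intro x y
      obtain ⟨n, hn, h⟩ := htr x y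
      exact ⟨⟨n, ⟨n, hn, rfl⟩⟩, h⟩
    · intro x
      rw [eq_bot_iff]
      rintro ⟨_, n, hn, rfl⟩ hnx
      rw [mem_bot]
      have h1 := hreg x n hn hnx
      apply Subtype.ext
      change (n : Equiv.Perm Ω) = 1
      rw [h1]
      rfl
  · exact ⟨T, A⟩

theorem map_min {T : Subgroup L} (A : AS L Ω T) {N : Subgroup (Equiv.Perm Ω)} (hNL : N ≤ L) (hN : (N.subgroupOf L).Normal)
    (hN1 : N ≠ ⊥) : T.map L.subtype ≤ N := by
  have h1 := A.le_of_normal (N.subgroupOf L) hN (by
    intro h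
    rw [subgroupOf_eq_bot, disjoint_iff, inf_eq_left.2 hNL] at h
    exact hN1 h)
  rintro _ ⟨x, hx, rfl⟩
  exact h1 hx

theorem exists_fix {T : Subgroup L} (A : AS L Ω T) :
    ∃ σ ∈ T.map L.subtype, σ ≠ 1 ∧ ∃ x z : Ω, x ≠ z ∧ σ x = x ∧ σ z = z := by
  obtain ⟨g, hg, hg1, a, b, hab, ha, hb⟩ := exists_fix_two A
  refine ⟨g, ⟨g, hg, rfl⟩, ?_, a, b, hab, ha, hb⟩
  intro h
  exact hg1 (Subtype.ext h)

/-- a normal subgroup `X ≠ 1` of a 2-transitive group which is not affine contains an element `≠ 1` fixing two points -/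
theorem kill_min [Finite Ω] (h2 : TwoTr L) (h3 : 3 ≤ Nat.card Ω) (hA : ¬ Aff L) {X : Subgroup (Equiv.Perm Ω)} (hXL : X ≤ L)
    (hX : (X.subgroupOf L).Normal) (hX1 : X ≠ ⊥) : ∃ σ ∈ X, σ ≠ 1 ∧ ∃ x z : Ω, x ≠ z ∧ σ x = x ∧ σ z = z := by
  obtain ⟨T, A⟩ := exists_as h2 h3 hA
  obtain ⟨σ, hσ, h⟩ := exists_fix A
  exact ⟨σ, map_min A hXL hX hX1 hσ, h⟩

/-- `L' ≤ L` 2-transitive, `L` not affine, of degree `p ^ a + 1`, `L'` of index `p ^ e` -/
theorem pp_of (hK : ∀ {G Ω : Type v} [Group G] [MulAction G Ω] {T : Subgroup G}, AS G Ω T → Known2 ↥T (Nat.card Ω)) [Finite Ω]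
    (h2 : TwoTr L) (hA : ¬ Aff L) (hL : L' ≤ L) (h2' : TwoTr L') {p a e : ℕ} (hp : p.Prime) (ha : 1 ≤ a)
    (hc : Nat.card Ω = p ^ a + 1) (he : L'.relIndex L = p ^ e) :
    ∃ X : Subgroup (Equiv.Perm Ω), X ≤ L' ∧ X ≤ L ∧ (X.subgroupOf L).Normal ∧ X ≠ ⊥ ∧
      (∀ N : Subgroup (Equiv.Perm Ω), N ≤ L → (N.subgroupOf L).Normal → N ≠ ⊥ → X ≤ N) ∧
      (∃ σ ∈ X, σ ≠ 1 ∧ ∃ x z : Ω, x ≠ z ∧ σ x = x ∧ σ z = z) ∧ p ^ e ≤ max a 2 := by
  have h3 : 3 ≤ Nat.card Ω := by
    have h4 : p ^ 1 ≤ p ^ a := Nat.pow_le_pow_right hp.pos ha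
    have h5 := hp.two_le
    rw [pow_one] at h4
    omega
  obtain ⟨T, A⟩ := exists_as h2 h3 hA
  have hH : IsMultiplyPretransitive (L'.subgroupOf L) Ω 2 := by
    rw [is_two_pretransitive_iff]
    intro a b c d hab hcd
    obtain ⟨g, hg, h1, h2⟩ := h2' a b c d hab hcd
    exact ⟨⟨⟨g, hL hg⟩, hg⟩, h1, h2⟩
  obtain ⟨h6, h7⟩ := main A (hK A) hp ha hc hH he
  have h8 := exists_fix A
  refine ⟨T.map L.subtype, ?_, map_le T, ?_, ?_, fun N h1 h2 h3 => map_min A h1 h2 h3, h8, h7⟩
  · rintro _ ⟨x, hx, rfl⟩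
    exact h6 hx
  · rw [subgroupOf_map]
    exact A.normal
  · rintro h
    obtain ⟨σ, hσ, hσ1, -⟩ := h8
    rw [h, mem_bot] at hσ
    exact hσ1 hσ

end Cfsg.Agent.H803.BP
end

-- part: H803/BP/Brk
section
/-!
# S3414, case (B): `StBRk` (helper803)

`st_brk_of` : `StTab2 → StBS5 → StBRk`.  Some prime `r ≠ p` divides `i_y`: `StTab2`; otherwise `i_y = p ^ e`: `pp_of`.
In both cases `L' y y'` contains the socle of `L y`, which contains an element `≠ 1` with two fixed points: `kill`.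
-/

set_option autoImplicit false

namespace Cfsg.Agent.H803.BP

open Subgroup MulAction Cfsg.Agent.H384.TwoTrans Cfsg.Agent.H873.Tits Cfsg.Agent.H506.Tits

universe u v

theorem st_brk_of (hK : ∀ {G Ω : Type v} [Group G] [MulAction G Ω] {T : Subgroup G}, AS G Ω T → Known2 ↥T (Nat.card Ω))
    (h2 : StTab2.{v}) (h5 : StBS5.{u, v}) : StBRk.{u, v} := by
  intro G _ _ V _ _ P F N b hB y hy hA p a c Q hLQ ⟨k, hk⟩
  obtain ⟨y', ho⟩ := F.exists_opp y
  have hp := hLQ.prime
  have hcard := hLQ.card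
  have h3 : 3 ≤ Nat.card {w : V // P.adj y w} := by
    have := hLQ.two_le
    omega
  have hL : P.L' y y' ≤ P.L y := L'_le_L
  have h2' : TwoTr (P.L' y y') := twoTr_L' F ho
  have hi0 : (P.L' y y').relIndex (P.L y) ≠ 0 := by
    rw [relIndex]
    exact index_ne_zero_of_finite
  by_cases hr : ∃ r : ℕ, r.Prime ∧ r ≠ p ∧ r ∣ (P.L' y y').relIndex (P.L y)
  · obtain ⟨r, hr, hrp, hrd⟩ := hr
    rcases h2 (P.L y) (P.L' y y') (P.q b) p a c Q hLQ h2' hL ⟨k, hk⟩ hA hr hrp hrd with ⟨X, hX, hn, hsw, -⟩ | h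
    · have hX1 : X ≠ ⊥ := by
        rintro rfl
        obtain ⟨τ, hτ, h, -⟩ := hsw a c hLQ.ne
        rw [mem_bot] at hτ
        subst hτ
        exact hLQ.ne h
      obtain ⟨σ, hσ, hσ1, x, z, hxz, hx, hz⟩ := kill_min hLQ.two h3 hA (hX.trans hL) hn hX1
      exact hσ1 (Cfsg.Agent.H115.Tits.kill F hB hy ho X hX hn hxz hσ hx hz)
    · exact h5 P F N hB hy ho h.1 h.2.2.2.1 h.2.2.2.2
  · have hk1 : 1 ≤ k := by
      have h4 := P.two_le b
      by_contra h0
      have h0 : k = 0 := by omega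
      rw [hk, h0, pow_zero] at h4
      omega
    have he : (P.L' y y').relIndex (P.L y) = p ^ ((P.L' y y').relIndex (P.L y)).primeFactorsList.length := by
      apply Nat.eq_prime_pow_of_unique_prime_dvd hi0
      intro q hq hqd
      by_contra hqp
      exact hr ⟨q, hq, hqp, hqd⟩
    obtain ⟨X, hX, hXL, hn, hX1, -, ⟨σ, hσ, hσ1, x, z, hxz, hx, hz⟩, -⟩ :=
      pp_of hK hLQ.two hA hL h2' hp hk1 (by rw [hcard, hk]) he
    exact hσ1 (Cfsg.Agent.H115.Tits.kill F hB hy ho X hX hn hxz hσ hx hz)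

end Cfsg.Agent.H803.BP
end

private theorem dce_f29aec693a2d : _root_.True := by
  try have : _root_.True := by simp only [_root_.Matrix.ProjectiveSpecialLinearGroup.congr_simp]
  try have : _root_.True := by simp only [_root_.Matrix.ProjGenLinGroup.congr_simp]
  exact _root_.True.intro
end

-- part: H115/Tits/AsmFinal
section
prune_inst 0x20006404302010000000001000001c22b0000000006b0000100000000407150000000e2046800810006000001000004000000010400000000000000000000000002802001050a000200006000081100000000000000000000000000000041000000000000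
set_option linter.all false
open scoped Cfsg.Agent.FastGrp

-- part: H274/Tits/PslNum
section
/-!
# S3414, case (B): `StPslNum`
-/

set_option autoImplicit false
open Cfsg

namespace Cfsg.Agent.H274.Tits.PN

open Subgroup MulAction Cfsg.Agent.H873.Tits Cfsg.Agent.H115.Tits Cfsg.Agent.H163.PG Finset

universe u v

/-- the valuation of a product, all but one factor of which are prime to `r` -/
theorem fac_prod_le {r : ℕ} {k j : ℕ} (a : ℕ → ℕ) (h0 : ∀ i, a i ≠ 0)
    (h : ∀ i ∈ range k, i ≠ j → ¬ r ∣ a i) : (∏ i ∈ range k, a i).factorization r ≤ (a j).factorization r := by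
  rw [Nat.factorization_prod fun i _ => h0 i, Finsupp.finsetSum_apply]
  by_cases hj : j ∈ range k
  · rw [← Finset.add_sum_erase _ _ hj]
    have : ∑ i ∈ (range k).erase j, (a i).factorization r = 0 := by
      apply Finset.sum_eq_zero
      intro i hi
      rw [Finset.mem_erase] at hi
      exact Nat.factorization_eq_zero_of_not_dvd (h i hi.2 hi.1)
    rw [this, add_zero]
  · have : ∑ i ∈ range k, (a i).factorization r = 0 := by
      apply Finset.sum_eq_zero
      intro i hi
      exact Nat.factorization_eq_zero_of_not_dvd (h i hi (fun h' => hj (h' ▸ hi)))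
    rw [this]
    exact Nat.zero_le _

/-- `v_r (N) ≤ v_r (t)`, `t T₂ ∣ N`: `r ∤ T₂` -/
theorem not_dvd_of_fac_le {r t T₂ N : ℕ} (hr : r.Prime) (hN : N ≠ 0) (h : t * T₂ ∣ N)
    (hv : N.factorization r ≤ t.factorization r) : ¬ r ∣ T₂ := by
  have h0 : t * T₂ ≠ 0 := by
    intro h0
    rw [h0, zero_dvd_iff] at h
    exact hN h
  have ht : t ≠ 0 := left_ne_zero_of_mul h0
  have hT : T₂ ≠ 0 := right_ne_zero_of_mul h0
  have h1 := (Nat.factorization_le_iff_dvd h0 hN).2 h r
  rw [Nat.factorization_mul ht hT, Finsupp.add_apply] at h1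
  intro h2
  have h3 := (hr.dvd_iff_one_le_factorization hT).1 h2
  omega

/-- numerics -/
theorem num_pslB {p f d q t T₂ : ℕ} (hp : p.Prime) (hf : 1 ≤ f) (hq : q = p ^ f) (hd : 3 ≤ d)
    (hs : (t + 1) * (q - 1) = q ^ d - 1)
    (h : t * T₂ ∣ 2 * f * (q ^ (d * (d - 1) / 2) * ∏ i ∈ range (d - 1), (q ^ (i + 2) - 1))) :
    (∃ r : ℕ, r.Prime ∧ r ≠ p ∧ r ∣ t ∧ ¬ r ∣ T₂) ∨ (d = 3 ∧ f = 1 ∧ ∃ k, p + 1 = 2 ^ k) ∨
      (d = 3 ∧ f = 3 ∧ p = 2) ∨ (d = 7 ∧ f = 1 ∧ p = 2) := by
  have hp2 := hp.two_le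
  have hq2 : 2 ≤ q := by
    rw [hq]
    calc 2 ≤ p := hp2
      _ = p ^ 1 := (pow_one p).symm
      _ ≤ p ^ f := Nat.pow_le_pow_right (by omega) hf
  have hpow : ∀ k, 1 ≤ k → 2 ≤ q ^ k := fun k hk =>
    hq2.trans (Nat.le_self_pow (by omega) q)
  have hsq : t * (q - 1) = q * (q ^ (d - 1) - 1) := by
    have h1 : q * q ^ (d - 1) = q ^ d := by rw [← pow_succ', Nat.sub_add_cancel (by omega)]
    have h2 := hpow d (by omega)
    have h3 := hpow (d - 1) (by omega)
    rw [Nat.mul_sub q, h1, mul_one]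
    rw [add_mul, one_mul] at hs
    omega
  have hs0 : t ≠ 0 := by
    rintro rfl
    have h3 := hpow (d - 1) (by omega)
    rw [zero_mul] at hsq
    have : 0 < q * (q ^ (d - 1) - 1) := Nat.mul_pos (by omega) (by omega)
    omega
  have hprod0 : ∀ i, q ^ (i + 2) - 1 ≠ 0 := fun i => by
    have := hpow (i + 2) (by omega)
    omega
  have hN0 : 2 * f * (q ^ (d * (d - 1) / 2) * ∏ i ∈ range (d - 1), (q ^ (i + 2) - 1)) ≠ 0 :=
    mul_ne_zero (by omega) (mul_ne_zero (pow_ne_zero _ (by omega)) (Finset.prod_ne_zero_iff.2 fun i _ => hprod0 i))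
  -- the case with a primitive prime divisor
  by_cases hr : ∃ r, Ppd p (f * (d - 1)) r
  · left
    obtain ⟨r, hr⟩ := hr
    have hfd : 2 ≤ f * (d - 1) := le_trans (by omega) (Nat.le_mul_of_pos_left (d - 1) hf)
    have hrq : ¬ r ∣ q := by
      rw [hq]
      exact fun h' => hr.not_dvd (by omega) (hr.prime.dvd_of_dvd_pow h')
    have hiff : ∀ k, r ∣ q ^ k - 1 ↔ (d - 1) ∣ k := by
      intro k
      rw [hq, ← pow_mul, hr.dvd_iff (by omega)]
      exact Nat.mul_dvd_mul_iff_left hf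
    have h1 : r ∣ q ^ (d - 1) - 1 := (hiff _).2 dvd_rfl
    have hq1 : ¬ r ∣ q - 1 := by
      have := (hiff 1).not.2 (fun h' => by
        have := Nat.le_of_dvd one_pos h'
        omega)
      rwa [pow_one] at this
    have h2 : t.factorization r = (q ^ (d - 1) - 1).factorization r := by
      have h3 : (t * (q - 1)).factorization r = (q * (q ^ (d - 1) - 1)).factorization r := by rw [hsq]
      have h4 := hpow (d - 1) (by omega)
      rw [Nat.factorization_mul hs0 (by omega), Nat.factorization_mul (by omega) (by omega), Finsupp.add_apply,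
        Finsupp.add_apply, Nat.factorization_eq_zero_of_not_dvd hq1, Nat.factorization_eq_zero_of_not_dvd hrq] at h3
      omega
    have hrs : r ∣ t := by
      have h3 : r ∣ t * (q - 1) := by
        rw [hsq]
        exact h1.mul_left _
      exact (hr.prime.dvd_mul.1 h3).resolve_right hq1
    refine ⟨r, hr.prime, hr.ne (by omega), hrs, not_dvd_of_fac_le hr.prime hN0 h ?_⟩
    rw [h2]
    have hr2 : ¬ r ∣ 2 * f := by
      intro h'
      rcases hr.prime.dvd_mul.1 h' with h' | h'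
      · exact hr.ne_two hfd ((Nat.prime_dvd_prime_iff_eq hr.prime Nat.prime_two).1 h')
      · exact hr.not_dvd_mul (Nat.le_mul_of_pos_right f (by omega)) hf h'
    rw [Nat.factorization_mul (by omega)
      (mul_ne_zero (pow_ne_zero _ (by omega)) (Finset.prod_ne_zero_iff.2 fun i _ => hprod0 i)),
      Nat.factorization_mul (pow_ne_zero _ (by omega)) (Finset.prod_ne_zero_iff.2 fun i _ => hprod0 i),
      Finsupp.add_apply, Finsupp.add_apply, Nat.factorization_eq_zero_of_not_dvd hr2,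
      Nat.factorization_eq_zero_of_not_dvd (fun h' => hrq (hr.prime.dvd_of_dvd_pow h')), zero_add, zero_add]
    have h5 := fac_prod_le (r := r) (k := d - 1) (j := d - 3) (fun i => q ^ (i + 2) - 1) hprod0 (by
      intro i hi hij h'
      rw [hiff] at h'
      rw [Finset.mem_range] at hi
      obtain ⟨c, hc⟩ := h'
      have hc0 : c ≠ 0 := by
        rintro rfl
        omega
      have hc1 : c = 1 := by
        by_contra hc1
        have : (d - 1) * 2 ≤ (d - 1) * c := Nat.mul_le_mul_left _ (by omega)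
        (clear * - hd hi hc this; omega)
      subst hc1
      omega)
    rw [show d - 3 + 2 = d - 1 by omega] at h5
    exact h5
  · -- the exceptions
    by_cases h3 : 3 ≤ f * (d - 1)
    · have h6 : p = 2 ∧ f * (d - 1) = 6 := by
        by_contra h6
        exact hr (Ppd.exists hp2 h3 h6)
      obtain ⟨rfl, h6⟩ := h6
      have hd6 : d - 1 ∣ 6 := Dvd.intro_left _ h6
      have hd7 : d - 1 ≤ 6 := Nat.le_of_dvd (by norm_num) hd6
      have hd4 : d - 1 = 2 ∨ d - 1 = 3 ∨ d - 1 = 6 := by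
        have h7 : 2 ≤ d - 1 := by omega
        generalize d - 1 = e at *
        interval_cases e
        · exact Or.inl rfl
        · exact Or.inr (Or.inl rfl)
        · revert hd6; decide
        · revert hd6; decide
        · exact Or.inr (Or.inr rfl)
      rcases hd4 with hd4 | hd4 | hd4
      · right; right; left
        have hf3 : f = 3 := by rw [hd4] at h6; omega
        exact ⟨by omega, hf3, rfl⟩
      · left
        have hf3 : f = 2 := by rw [hd4] at h6; omega
        have hd' : d = 4 := by omega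
        subst hf3 hd' hq
        have hs72 : t = 84 := by norm_num at hsq; omega
        subst hs72
        refine ⟨7, by norm_num, by norm_num, by norm_num, ?_⟩
        refine not_dvd_of_fac_le (by norm_num) hN0 h ?_
        have e1 : 2 * 2 * ((2 ^ 2) ^ (4 * (4 - 1) / 2) * ∏ i ∈ range (4 - 1), ((2 ^ 2) ^ (i + 2) - 1)) =
            7 ^ 1 * 564019200 := by
          simp only [Finset.prod_range_succ, Finset.prod_range_zero]
          norm_num
        rw [e1, show (84 : ℕ) = 7 ^ 1 * 12 by norm_num, Nat.factorization_mul (by norm_num) (by norm_num),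
          Nat.factorization_mul (by norm_num) (by norm_num), Finsupp.add_apply, Finsupp.add_apply,
          Nat.factorization_eq_zero_of_not_dvd (by norm_num : ¬ 7 ∣ 564019200)]
        omega
      · right; right; right
        have hf3 : f = 1 := by rw [hd4] at h6; omega
        exact ⟨by omega, hf3, rfl⟩
    · right
      left
      have hfd : f * (d - 1) = 2 := by
        have := Nat.le_mul_of_pos_left (d - 1) hf
        omega
      have hd' : d = 3 := by
        have := Nat.le_mul_of_pos_left (d - 1) hf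
        omega
      subst hd'
      have hf1 : f = 1 := by omega
      subst hf1
      refine ⟨rfl, rfl, ?_⟩
      by_contra hm
      exact hr (Ppd.exists_two hp2 hm)

/-- the order of `L` -/
theorem card_dvd {Ω : Type v} [Finite Ω] {L : Subgroup (Equiv.Perm Ω)} {p d f : ℕ} (hT : PSLType L p d f) :
    Nat.card L ∣ 2 * f * ((p ^ f) ^ (d * (d - 1) / 2) * ∏ i ∈ range (d - 1), ((p ^ f) ^ (i + 2) - 1)) := by
  obtain ⟨hd, hf, hp, hn, X, hXL, hXn, hXmin, F, i1, i2, hF, ⟨e⟩⟩ := hT
  have hs : IsSimpleGroup (Matrix.ProjectiveSpecialLinearGroup (Fin d) F) := Cfsg.Agent.S0249.result d hd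
  have hnc : ¬ IsMulCommutative (Matrix.ProjectiveSpecialLinearGroup (Fin d) F) :=
    Cfsg.Agent.H679.TwoPsl.not_comm (by omega)
  have hZ : Subgroup.center (Matrix.ProjectiveSpecialLinearGroup (Fin d) F) = ⊥ := by
    rcases (inferInstance : (Subgroup.center (Matrix.ProjectiveSpecialLinearGroup (Fin d) F)).Normal).eq_bot_or_eq_top
      with h | h
    · exact h
    · exfalso
      apply hnc
      refine ⟨⟨fun x y => ?_⟩⟩
      have h1 : x ∈ Subgroup.center (Matrix.ProjectiveSpecialLinearGroup (Fin d) F) := by rw [h]; exact Subgroup.mem_top _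
      exact (Subgroup.mem_center_iff.1 h1 y).symm
  let N := X.subgroupOf L
  have hN : N.Normal := hXn
  let e' : N ≃* Matrix.ProjectiveSpecialLinearGroup (Fin d) F := (Subgroup.subgroupOfEquivOfLe hXL).trans e
  have hC : Subgroup.centralizer (N : Set L) = ⊥ := by
    by_contra hC
    have h1 := hXmin ((Subgroup.centralizer (N : Set L)).map L.subtype) (by
        rintro _ ⟨x, -, rfl⟩
        exact x.2) (by
        have h2 : ((Subgroup.centralizer (N : Set L)).map L.subtype).subgroupOf L = Subgroup.centralizer (N : Set L) := by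
          ext x
          constructor
          · rintro ⟨y, hy, hyx⟩
            have : y = x := L.subtype_injective hyx
            rwa [← this]
          · intro hx
            exact ⟨x, hx, rfl⟩
        rw [h2]
        infer_instance) (by
        intro h2
        exact hC ((Subgroup.map_eq_bot_iff_of_injective _ L.subtype_injective).1 h2))
    apply hnc
    refine ⟨⟨fun x y => e'.symm.injective ?_⟩⟩
    rw [map_mul, map_mul]
    obtain ⟨z, hz, hzx⟩ := h1 (e'.symm x).2
    have h3 : z = ((e'.symm x : N) : L) := L.subtype_injective hzx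
    rw [h3] at hz
    exact Subtype.ext (Subgroup.mem_centralizer_iff.1 hz _ (e'.symm y).2).symm
  have h1 := card_dvd_mul_out N e' hC
  rw [card_out_psl hp hf hF hd hZ] at h1
  have hc := card_psl (F := F) (n := d) (by omega)
  rw [hF] at hc h1
  refine h1.trans (dvd_of_eq ?_)
  rw [← hc]
  ring

/-- **StPslNum** -/
theorem st_pslnum : StPslNum.{v} := by
  intro Ω _ L p d f a b hL hab hT
  have h1 := card_dvd hT
  obtain ⟨hd, hf, hp, hn, -⟩ := hT
  have hc := Cfsg.Agent.H592.E4.card_twoTr hL hab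
  have h2 : 1 < Nat.card Ω := by
    have : Nontrivial Ω := ⟨a, b, hab⟩
    exact Finite.one_lt_card
  obtain ⟨t, ht⟩ : ∃ t, Nat.card Ω = t + 1 := ⟨Nat.card Ω - 1, by omega⟩
  rw [ht, Nat.add_sub_cancel] at hc ⊢
  rw [ht] at hn
  rw [hc] at h1
  exact num_pslB hp hf rfl hd hn ((Dvd.intro_left _ rfl).trans h1)

end Cfsg.Agent.H274.Tits.PN
end

-- part: H274/Tits/SqRows
section
/-!
# S3414, TABSQ: the rows `PSL_d(q)`, `PSU₃(q)`, `Sz(q)`, `²G₂(q)`
-/

set_option autoImplicit false
open Cfsg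

namespace Cfsg.Agent.H274.Tits.Sq

open Cfsg.Agent.H384.TwoTrans Cfsg.Agent.H163.PG Cfsg.Agent.H115.Tits

universe u v w

variable {G : Type u} {Ω : Type v} [Group G] [MulAction G Ω] {T : Subgroup G} {t T₂ : ℕ}

theorem center_eq_bot (D : DatSq Ω T t T₂) {S : Type w} [Group S] (e : ↥T ≃* S) : Subgroup.center S = ⊥ := by
  have := D.A.simple
  have hS : IsSimpleGroup S := e.symm.isSimpleGroup
  rcases (inferInstance : (Subgroup.center S).Normal).eq_bot_or_eq_top with h | h
  · exact h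
  · exfalso
    apply D.A.nonab
    refine ⟨⟨fun x y => e.injective ?_⟩⟩
    rw [map_mul, map_mul]
    have h1 : e x ∈ Subgroup.center S := by rw [h]; exact Subgroup.mem_top _
    exact (Subgroup.mem_center_iff.1 h1 (e y)).symm

theorem exists_pf (F : Type) [Field F] [Fintype F] : ∃ p f : ℕ, p.Prime ∧ 1 ≤ f ∧ Fintype.card F = p ^ f := by
  obtain ⟨r, hchar⟩ := CharP.exists F
  obtain ⟨⟨f, hf0⟩, hr, hf⟩ := FiniteField.card F r
  exact ⟨r, f, hr, hf0, hf⟩

/-- **`PSL_d(q)`** -/
theorem row_psl (D : DatSq Ω T t T₂) (F : Type) [Field F] [Fintype F] {d : ℕ} (hd : 2 ≤ d)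
    (hd2 : d = 2 → 4 ≤ Fintype.card F) (e : T ≃* Matrix.ProjectiveSpecialLinearGroup (Fin d) F)
    (hn : (t + 1) * (Fintype.card F - 1) = Fintype.card F ^ d - 1) : RowSq T t := by
  obtain ⟨p, f, hp, hf, hF⟩ := exists_pf F
  have ht2 := D.t2
  by_cases h3 : 3 ≤ d
  · right
    refine ⟨p, d, f, h3, hf, hp, ?_, F, inferInstance, inferInstance, hF, ⟨e⟩⟩
    rw [← hF]
    exact hn
  have hd' : d = 2 := by omega
  subst hd'
  have h4 := hd2 rfl
  exfalso
  have htq : t = Fintype.card F := by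
    have h5 : Fintype.card F ^ 2 - 1 = (Fintype.card F + 1) * (Fintype.card F - 1) := by
      have := Nat.sq_sub_sq (Fintype.card F) 1
      rwa [one_pow] at this
    rw [h5] at hn
    have h6 := Nat.eq_of_mul_eq_mul_right (by omega) hn
    omega
  have hdvd := D.dvd e
  have hZ := center_eq_bot D e
  have hc := card_psl (F := F) (n := 2) le_rfl
  rw [show 2 * (2 - 1) / 2 = 1 by norm_num, pow_one, show 2 - 1 = 1 by norm_num, Finset.prod_range_one, zero_add] at hc
  rw [card_out_psl_two hp hf hF h4 hZ] at hdvd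
  rw [← htq] at hc hdvd
  refine num_psl2 hp.two_le hf (htq.trans hF) ?_
  rw [← hc]
  have e1 : Nat.gcd 2 (t - 1) * Nat.card (Matrix.ProjectiveSpecialLinearGroup (Fin 2) F) * f =
      Nat.card (Matrix.ProjectiveSpecialLinearGroup (Fin 2) F) * (f * Nat.gcd 2 (t - 1)) := by ring
  rw [e1]
  exact hdvd

/-- **`PSU₃(q)`** -/
theorem row_psu (D : DatSq Ω T t T₂) (F : Type) [Field F] [Fintype F] {q : ℕ} (hq : 3 ≤ q)
    (hF : Fintype.card F = q ^ 2) (e : T ≃* Cfsg.PSU 3 F q) (hn : t + 1 = q ^ 3 + 1) : False := by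
  obtain ⟨p, g, hp, hg, hFp⟩ := exists_pf F
  have ht2 := D.t2
  obtain ⟨f, hf, hqf⟩ : ∃ f, 1 ≤ f ∧ q = p ^ f := by
    have h1 : q ∣ p ^ g := by
      rw [← hFp, hF]
      exact dvd_pow_self q (by norm_num)
    obtain ⟨f, -, hf⟩ := (Nat.dvd_prime_pow hp).1 h1
    refine ⟨f, ?_, hf⟩
    by_contra h2
    have : f = 0 := by omega
    subst this
    rw [pow_zero] at hf
    omega
  have htq : t = q ^ 3 := by omega
  have hdvd := D.dvd e
  have hZ := center_eq_bot D e
  have hc := S0280.result hF 3 (by norm_num)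
  rw [card_out_psu hp hf hqf hF le_rfl (by omega) hZ] at hdvd
  have hprod : ∏ i ∈ Finset.range 3, (if Even i then q ^ (i + 1) + 1 else q ^ (i + 1) - 1) =
      (q + 1) * (q ^ 2 - 1) * (q ^ 3 + 1) := by
    rw [Finset.prod_range_succ, Finset.prod_range_succ, Finset.prod_range_one]
    rw [if_pos (by decide), if_neg (by decide), if_pos (by decide)]
    norm_num only [_root_.pow_one]
  rw [hprod, show 3 * (3 - 1) / 2 = 3 by norm_num] at hc
  have hc' : Nat.gcd 3 (q + 1) * Nat.card (Cfsg.PSU 3 F q) = q ^ 3 * ((q ^ 2 - 1) * (q ^ 3 + 1)) := by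
    apply Nat.eq_of_mul_eq_mul_left (show 0 < q + 1 by omega)
    calc (q + 1) * (Nat.gcd 3 (q + 1) * Nat.card (Cfsg.PSU 3 F q)) =
        Nat.gcd 3 (q + 1) * ((q + 1) * Nat.card (Cfsg.PSU 3 F q)) := by ring
      _ = _ := by rw [hc]; ring
  refine num_psu hp.two_le hf hqf ?_
  rw [← hc', ← htq]
  have e1 : Nat.gcd 3 (q + 1) * Nat.card (Cfsg.PSU 3 F q) * (2 * f) =
      Nat.card (Cfsg.PSU 3 F q) * (Nat.gcd 3 (q + 1) * (2 * f)) := by ring
  rw [e1]
  exact hdvd

/-- **`Sz(q)`** -/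
theorem row_sz (D : DatSq Ω T t T₂) (F : Type) [Field F] [Fintype F] {m : ℕ} (hm : 1 ≤ m)
    (hF : Fintype.card F = 2 ^ (2 * m + 1)) (e : T ≃* ↥(Cfsg.Lie.Sz F (2 ^ (m + 1))))
    (hn : t + 1 = Fintype.card F ^ 2 + 1) : False := by
  have hdvd := D.dvd e
  rw [(S1163.result hm hF).1, S2126.result hm hF] at hdvd
  have htq : t = (2 ^ (2 * m + 1)) ^ 2 := by rw [← hF]; omega
  rw [htq] at hdvd
  exact num_sz hm rfl hdvd

/-- **`²G₂(q)`** -/
theorem row_ree (D : DatSq Ω T t T₂) (K : Type) [Field K] [Fintype K] {m : ℕ} (hm : 1 ≤ m)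
    (hK : Fintype.card K = 3 ^ (2 * m + 1)) (e : T ≃* ↥(Cfsg.Lie.twistedG2 K (3 ^ m)))
    (hn : t + 1 = Fintype.card K ^ 3 + 1) : False := by
  have hdvd := D.dvd e
  rw [S1069.result hK, S2127.result hm hK] at hdvd
  have htq : t = (3 ^ (2 * m + 1)) ^ 3 := by rw [← hK]; omega
  rw [htq] at hdvd
  exact num_ree hm rfl hdvd

end Cfsg.Agent.H274.Tits.Sq
end

-- part: H274/Tits/TabSqCore
section
/-!
# S3414, TABSQ: the bridge from the list of the 2-transitive groups
-/

set_option autoImplicit false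
open Cfsg

namespace Cfsg.Agent.H274.Tits.Sq

open Subgroup MulAction Cfsg.Agent.H384.TwoTrans Cfsg.Agent.H873.Tits Cfsg.Agent.H115.Tits

universe u v

/-- the socle is contained in every non-trivial normal subgroup -/
theorem socle_le {G : Type u} {Ω : Type v} [Group G] [MulAction G Ω] {T : Subgroup G} (A : AS G Ω T) {M : Subgroup G}
    (hM : M.Normal) (hM1 : M ≠ ⊥) : T ≤ M := by
  have := A.simple
  have := A.normal
  rcases (inferInstance : (M.subgroupOf T).Normal).eq_bot_or_eq_top with h | h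
  · exfalso
    apply hM1
    rw [subgroupOf_eq_bot] at h
    rw [eq_bot_iff, ← A.cent]
    intro m hm
    rw [mem_centralizer_iff]
    intro x hx
    exact (Subgroup.commute_of_normal_of_disjoint T M A.normal hM h.symm x m hx hm)
  · rwa [subgroupOf_eq_top] at h

theorem swap_mem {Ω : Type v} [Fintype Ω] [DecidableEq Ω] {L : Subgroup (Equiv.Perm Ω)} (h : alternatingGroup Ω ≤ L)
    {a b c : Ω} (hab : a ≠ b) (hbc : b ≠ c) : Equiv.swap a b * Equiv.swap b c ∈ L := by
  apply h
  rw [Equiv.Perm.mem_alternatingGroup, map_mul, Equiv.Perm.sign_swap hab, Equiv.Perm.sign_swap hbc]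
  decide

/-- a product of two transpositions -/
theorem altLe_of {Ω : Type v} [Fintype Ω] [i : DecidableEq Ω] {L : Subgroup (Equiv.Perm Ω)} (h : alternatingGroup Ω ≤ L) :
    AltLe L := by
  have hi : i = fun a b => Classical.propDecidable (a = b) := Subsingleton.elim _ _
  subst hi
  unfold AltLe
  intro a b c hab hbc hac
  exact @swap_mem Ω _ (fun a b => Classical.propDecidable (a = b)) L h a b c hab hbc

/-- **TABSQ** from the rows -/
theorem st_tabsq_of (hK : ∀ {G Ω : Type v} [Group G] [MulAction G Ω] {T : Subgroup G} {t T₂ : ℕ}, DatSq Ω T t T₂ →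
    RowSq ↥T t) : StTabSq.{v} := by
  intro Ω _ L a b hL h3 hab hAff hsq
  classical
  have := Fintype.ofFinite Ω
  have h2 : IsMultiplyPretransitive L Ω 2 := by
    rw [is_two_pretransitive_iff]
    intro a b c d hab hcd
    obtain ⟨g, hg, h1, h2⟩ := hL a b c d hab hcd
    exact ⟨⟨g, hg⟩, h1, h2⟩
  rcases reduction h2 h3 with ⟨N, hN, -, hNc, -, htr, hreg⟩ | ⟨T, A⟩
  · exfalso
    apply hAff
    have hinj := L.subtype_injective
    let e : N ≃* N.map L.subtype := N.equivMapOfInjective _ hinj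
    refine ⟨N.map L.subtype, ?_, ?_, ?_, ⟨?_⟩, ?_⟩
    · rintro _ ⟨x, -, rfl⟩
      exact x.2
    · have h1 : (N.map L.subtype).subgroupOf L = N := by
        ext x
        constructor
        · rintro ⟨y, hy, hyx⟩
          have : y = x := hinj hyx
          rwa [← this]
        · intro hx
          exact ⟨x, hx, rfl⟩
      rw [h1]
      exact hN
    · exact ⟨⟨fun x y => e.symm.injective (by rw [map_mul, map_mul, hNc.is_comm.comm])⟩⟩
    · intro x y
      obtain ⟨n, hn, h⟩ := htr x y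
      exact ⟨⟨n, ⟨n, hn, rfl⟩⟩, h⟩
    · intro x
      rw [eq_bot_iff]
      rintro ⟨_, n, hn, rfl⟩ hnx
      rw [mem_bot]
      have h1 := hreg x n hn hnx
      apply Subtype.ext
      change (n : Equiv.Perm Ω) = 1
      rw [h1]
      rfl
  have hc := Cfsg.Agent.H592.E4.card_twoTr hL hab
  obtain ⟨t, ht⟩ : ∃ t, Nat.card Ω = t + 1 := ⟨Nat.card Ω - 1, by omega⟩
  have D : DatSq Ω T t (Nat.card ↥(Stb L a ⊓ Stb L b)) := by
    refine ⟨A, ht, ?_, by omega, ?_⟩
    · rw [hc, ht, Nat.add_sub_cancel, mul_assoc]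
    · rwa [ht, Nat.add_sub_cancel] at hsq
  rcases hK D with h | ⟨p, d, f, hd, hf, hp, hcd, F, i1, i2, hF, ⟨e⟩⟩
  · left
    rw [← ht] at h
    have h1 := Cfsg.Agent.H499.TT.alt_le_range A h
    apply altLe_of
    refine h1.trans ?_
    rintro _ ⟨x, rfl⟩
    exact x.2
  · right
    refine ⟨p, d, f, hd, hf, hp, by rw [ht]; exact hcd, T.map L.subtype, ?_, ?_, ?_, F, i1, i2, hF, ⟨?_⟩⟩
    · rintro _ ⟨x, -, rfl⟩
      exact x.2
    · have h1 : (T.map L.subtype).subgroupOf L = T := by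
        ext x
        constructor
        · rintro ⟨y, hy, hyx⟩
          have : y = x := L.subtype_injective hyx
          rwa [← this]
        · intro hx
          exact ⟨x, hx, rfl⟩
      rw [h1]
      exact A.normal
    · intro M hML hM hM1
      have h1 := socle_le A hM (by
        intro h
        rw [subgroupOf_eq_bot, disjoint_iff, inf_eq_left.2 hML] at h
        exact hM1 h)
      rintro _ ⟨x, hx, rfl⟩
      exact h1 hx
    · exact (T.equivMapOfInjective _ L.subtype_injective).symm.trans e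

end Cfsg.Agent.H274.Tits.Sq
end

-- part: H523/KA/NumSp
section
/-!
# S3414, TABSQ: the numerical part of the row `Sp_2m(2)` (helper523)
-/

set_option autoImplicit false

namespace Cfsg.Agent.H523.KA.NumSp

open Finset Cfsg.Agent.H163.PG Cfsg.Agent.H115.Tits

theorem pow_split (m : ℕ) : 2 ^ (2 * m) - 1 = (2 ^ m - 1) * (2 ^ m + 1) := by
  have h1 := Nat.sq_sub_sq (2 ^ m) 1
  rw [one_pow, ← pow_mul, mul_comm m 2] at h1
  rw [h1, mul_comm]

/-- general step -/
theorem step {m j t r a : ℕ} (hr : Ppd 2 (2 * j) r) (hj1 : 2 ≤ j) (hjm : j ≤ m) (hmj : m < 2 * j)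
    (ht : t = a * (2 ^ j + 1)) (hta : 0 < a)
    (h : t * t ∣ 2 ^ (m ^ 2) * ∏ i ∈ range m, (2 ^ (2 * (i + 1)) - 1)) : False := by
  have hiff := hr.dvd_iff (by norm_num : 1 ≤ 2)
  have hpos : ∀ k : ℕ, 1 ≤ k → 2 ≤ 2 ^ k := fun k hk => by
    calc 2 = 2 ^ 1 := rfl
      _ ≤ 2 ^ k := Nat.pow_le_pow_right (by norm_num) hk
  have hnd : ¬ r ∣ 2 ^ j - 1 := by
    rw [hiff]
    intro h'
    have := Nat.le_of_dvd (by omega) h'
    omega
  have hd : r ∣ 2 ^ (2 * j) - 1 := (hiff _).2 dvd_rfl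
  have hd' : r ∣ 2 ^ j + 1 := by
    rw [pow_split] at hd
    exact (hr.prime.dvd_mul.1 hd).resolve_left hnd
  have hval : (2 ^ (2 * j) - 1).factorization r = (2 ^ j + 1).factorization r := by
    have h1 := hpos j (by omega)
    rw [pow_split, Nat.factorization_mul (by omega) (by omega), Finsupp.add_apply,
      Nat.factorization_eq_zero_of_not_dvd hnd, zero_add]
  have h0 : ∀ i, 2 ^ (2 * (i + 1)) - 1 ≠ 0 := fun i => by
    have := hpos (2 * (i + 1)) (by omega)
    omega
  have hN0 : 2 ^ (m ^ 2) * ∏ i ∈ range m, (2 ^ (2 * (i + 1)) - 1) ≠ 0 :=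
    mul_ne_zero (pow_ne_zero _ (by norm_num)) (Finset.prod_ne_zero_iff.2 fun i _ => h0 i)
  have ht0 : t ≠ 0 := by
    rw [ht]
    exact mul_ne_zero (by omega) (Nat.succ_ne_zero _)
  refine not_sq_dvd (M := 2 ^ (2 * j) - 1) hr.prime (ht ▸ hd'.mul_left _) hN0 h ?_ ?_
  · rw [Nat.factorization_mul (pow_ne_zero _ (by norm_num)) (Finset.prod_ne_zero_iff.2 fun i _ => h0 i),
      Finsupp.add_apply, Nat.factorization_eq_zero_of_not_dvd (fun h' => hr.not_dvd (by omega)
        (hr.prime.dvd_of_dvd_pow h')), zero_add]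
    have h5 := factorization_prod_le (r := r) (k := m) (j := j - 1) (fun i => 2 ^ (2 * (i + 1)) - 1) h0 (by
      intro i hi hij h'
      rw [hiff] at h'
      rw [Finset.mem_range] at hi
      have h6 : j ∣ i + 1 := Nat.dvd_of_mul_dvd_mul_left (by norm_num) h'
      obtain ⟨c, hc⟩ := h6
      have hc0 : c ≠ 0 := by
        rintro rfl
        omega
      have hc1 : c = 1 := by
        by_contra hc1
        have : j * 2 ≤ j * c := Nat.mul_le_mul_left _ (by omega)
        omega
      subst hc1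
      omega)
    rw [show j - 1 + 1 = j by omega] at h5
    exact h5
  · rw [hval, ht, Nat.factorization_mul (by omega) (Nat.succ_ne_zero _), Finsupp.add_apply]
    exact Nat.le_add_left _ _

/-- **`Sp_2m(2)`** -/
theorem num_sp {m t : ℕ} (hm : 3 ≤ m) (ht : t + 1 = 2 ^ (m - 1) * (2 ^ m + 1) ∨ t + 1 = 2 ^ (m - 1) * (2 ^ m - 1))
    (h : t * t ∣ 2 ^ (m ^ 2) * ∏ i ∈ range m, (2 ^ (2 * (i + 1)) - 1)) : False := by
  obtain ⟨k, rfl⟩ := Nat.exists_eq_add_of_le' hm
  rw [show k + 3 - 1 = k + 2 by omega] at ht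
  have e1 : 2 ^ (k + 3) = 2 * 2 ^ (k + 2) := by ring
  have e2 : 4 ≤ 2 ^ (k + 2) := by
    calc 4 = 2 ^ 2 := rfl
      _ ≤ 2 ^ (k + 2) := Nat.pow_le_pow_right (by norm_num) (by omega)
  rcases ht with ht | ht
  · by_cases h4 : k = 1
    · subst h4
      have : t = 135 := by norm_num at ht; omega
      subst this
      revert h
      simp only [Finset.prod_range_succ, Finset.prod_range_zero]
      norm_num
    · obtain ⟨r, hr⟩ := Ppd.exists (p := 2) (n := 2 * (k + 2)) (by norm_num) (by omega) (by omega)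
      refine step (j := k + 2) (m := k + 3) (a := 2 ^ (k + 3) - 1) hr (by omega) (by omega) (by omega) ?_ (by omega) h
      rw [e1] at ht ⊢
      generalize 2 ^ (k + 2) = x at *
      obtain ⟨y, rfl⟩ := Nat.exists_eq_add_of_le' (show 1 ≤ x by omega)
      have e3 : 2 * (y + 1) - 1 = 2 * y + 1 := by omega
      rw [e3]
      linarith only [ht]
  · by_cases h3 : k = 0
    · subst h3
      have : t = 27 := by norm_num at ht; omega
      subst this
      revert h
      simp only [Finset.prod_range_succ, Finset.prod_range_zero]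
      norm_num
    · obtain ⟨r, hr⟩ := Ppd.exists (p := 2) (n := 2 * (k + 3)) (by norm_num) (by omega) (by omega)
      refine step (j := k + 3) (m := k + 3) (a := 2 ^ (k + 2) - 1) hr (by omega) (by omega) (by omega) ?_ (by omega) h
      rw [e1] at ht ⊢
      generalize 2 ^ (k + 2) = x at *
      obtain ⟨y, rfl⟩ := Nat.exists_eq_add_of_le' (show 1 ≤ x by omega)
      have e3 : 2 * (y + 1) - 1 = 2 * y + 1 := by omega
      rw [e3] at ht
      have e4 : y + 1 - 1 = y := by omega
      rw [e4]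
      linarith only [ht]

end Cfsg.Agent.H523.KA.NumSp
end

-- part: H523/KA/RowSp
section
/-!
# S3414, TABSQ: the row `Sp_2m(2)` (helper523)
-/

set_option autoImplicit false

namespace Cfsg.Agent.H523.KA.RowSp

open Cfsg Cfsg.Agent.H115.Tits Cfsg.Agent.H384.TwoTrans

universe u v w

variable {G : Type u} {Ω : Type v} [Group G] [MulAction G Ω] {T : Subgroup G} {t T₂ : ℕ}

theorem card_psp {F : Type*} [Field F] [Fintype F] (hF : Fintype.card F = 2) {m : ℕ} (hm : 1 ≤ m) :
    Nat.card (PSp m F) = 2 ^ (m ^ 2) * ∏ i ∈ Finset.range m, (2 ^ (2 * (i + 1)) - 1) := by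
  have h1 := S0245.result hF m
  have h2 := S0246.result hF m hm
  have h3 := Subgroup.card_mul_index (Subgroup.center ↥(Matrix.symplecticGroup (Fin m) F))
  rw [h1, h2] at h3
  have h4 : Nat.gcd 2 (2 - 1) = 1 := by decide
  rw [h4, one_mul] at h3
  exact h3

/-- **the row `Sp_2m(2)` of TABSQ** -/
theorem row_sp (D : DatSq Ω T t T₂) {F : Type w} [Field F] [Fintype F] {m : ℕ} (hF : Fintype.card F = 2) (hm : 3 ≤ m)
    (e : ↥T ≃* PSp m F) (hn : t + 1 = 2 ^ (m - 1) * (2 ^ m + 1) ∨ t + 1 = 2 ^ (m - 1) * (2 ^ m - 1)) : False := by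
  have := D.A.finG
  have := D.A.finΩ
  have := D.A.faithful
  have hT := Cfsg.Agent.H499.TT.sp_index D.A hF hm e
  have h1 : Nat.card T = Nat.card G := by
    rw [hT]
    exact Nat.card_congr (Equiv.subtypeUnivEquiv fun _ => Subgroup.mem_top _)
  have h2 : Nat.card G = 2 ^ (m ^ 2) * ∏ i ∈ Finset.range m, (2 ^ (2 * (i + 1)) - 1) := by
    rw [← h1, Nat.card_congr e.toEquiv, card_psp hF (by omega)]
  refine NumSp.num_sp hm hn ?_
  rw [← h2, D.hG, mul_assoc]
  exact (Nat.mul_dvd_mul_left t D.sq).mul_left _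

end Cfsg.Agent.H523.KA.RowSp
end

-- part: H164/TabSq/Rows
section
/-!
# S3414, TABSQ: the alternating, small and sporadic rows (helper164)
-/

set_option autoImplicit false

namespace Cfsg.Agent.H164.TabSq

open Cfsg Cfsg.Agent.H115.Tits Cfsg.Agent.H384.TwoTrans Cfsg.Agent.H499.TT

universe u v w

variable {G : Type u} {Ω : Type v} [Group G] [MulAction G Ω] {T : Subgroup G} {t T₂ : ℕ}

/-- **the alternating groups** -/
theorem row_alt (_D : DatSq Ω T t T₂) {n : ℕ} (hn : 5 ≤ n) (e : ↥T ≃* ↥(alternatingGroup (Fin n))) (h : t + 1 = n) :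
    RowSq T t := by
  left
  rw [Nat.card_congr e.toEquiv, card_alt hn, h]

/-- **`PSL₂(8)`, degree 28** -/
theorem row_psl2_8 (D : DatSq Ω T t T₂) {F : Type w} [Field F] [Fintype F] (hF : Fintype.card F = 8)
    (e : ↥T ≃* Matrix.ProjectiveSpecialLinearGroup (Fin 2) F) (h : t + 1 = 28) : False := by
  have h1 := D.dvd e
  rw [card_out_psl2 (p := 2) (f := 3) (by norm_num) (by norm_num) (by rw [hF]; norm_num) (by norm_num), card_psl2 hF] at h1
  obtain rfl : t = 27 := by omega
  norm_num at h1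

/-- **`PSL₂(9)`, degree 6** -/
theorem row_psl2_9 (_D : DatSq Ω T t T₂) {F : Type w} [Field F] [Fintype F] (hF : Fintype.card F = 9)
    (e : ↥T ≃* Matrix.ProjectiveSpecialLinearGroup (Fin 2) F) (h : t + 1 = 6) : RowSq T t := by
  left
  rw [Nat.card_congr e.toEquiv, card_psl2 hF, h]
  decide

/-- **`PSL₂(11)`, degree 11** -/
theorem row_psl2_11 (D : DatSq Ω T t T₂) {F : Type w} [Field F] [Fintype F] (hF : Fintype.card F = 11)
    (e : ↥T ≃* Matrix.ProjectiveSpecialLinearGroup (Fin 2) F) (h : t + 1 = 11) : False := by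
  have h1 := D.dvd e
  rw [card_out_psl2 (p := 11) (f := 1) (by norm_num) (by norm_num) (by rw [hF]; norm_num) (by norm_num), card_psl2 hF] at h1
  obtain rfl : t = 10 := by omega
  norm_num at h1

/-- **`PSL₄(2)`, degree 8** -/
theorem row_psl4_2 (_D : DatSq Ω T t T₂) {F : Type w} [Field F] [Fintype F] (hF : Fintype.card F = 2)
    (e : ↥T ≃* Matrix.ProjectiveSpecialLinearGroup (Fin 4) F) (h : t + 1 = 8) : RowSq T t := by
  left
  rw [Nat.card_congr e.toEquiv, card_psl4_2 hF, h]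
  decide

/-- **`A₇`, degree 15** -/
theorem row_a7 (D : DatSq Ω T t T₂) (e : ↥T ≃* ↥(alternatingGroup (Fin 7))) (h : t + 1 = 15) : False := by
  have h1 := D.dvd e
  have h2 := card_alt (n := 7) (by norm_num)
  have h3 : (7 : ℕ).factorial = 5040 := by decide
  rw [h3] at h2
  have h4 : Nat.card ↥(alternatingGroup (Fin 7)) = 2520 := by omega
  rw [Cfsg.Agent.H489.card_out_alt (by norm_num) (by norm_num), h4] at h1
  obtain rfl : t = 14 := by omega
  norm_num at h1

/-- the sporadic rows -/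
theorem kill (D : DatSq Ω T t T₂) (hs : IsSporadicGroup ↥T) {N : ℕ} (hN : Nat.card T = N)
    (h : ¬ (t + 1) * (t * t) ∣ N * 2) : False := by
  have := D.A.finG
  have h1 := D.dvd (MulEquiv.refl T)
  rw [hN] at h1
  have h2 := Cfsg.Agent.H489.card_out_sporadic hs
  have h3 : Nat.card (Out ↥T) ∣ 2 := by
    have : Finite (MulAut ↥T) := Finite.of_injective (fun f : MulAut ↥T => (f : ↥T → ↥T)) DFunLike.coe_injective
    have : Finite (Out ↥T) := Quotient.finite _
    have h4 : 0 < Nat.card (Out ↥T) := Nat.card_pos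
    generalize Nat.card (Out ↥T) = o at h2 h4
    interval_cases o <;> norm_num
  exact h (h1.trans (Nat.mul_dvd_mul_left _ h3))

theorem row_m11 (D : DatSq Ω T t T₂) (hs : Spor.IsoM11 ↥T) (h : t + 1 = 11) : False := by
  refine kill D (by simp only [IsSporadicGroup, hs, true_or, or_true]) (NotCT.Orders.m11 hs) ?_
  obtain rfl : t = 10 := by omega
  norm_num

theorem row_m11' (D : DatSq Ω T t T₂) (hs : Spor.IsoM11 ↥T) (h : t + 1 = 12) : False := by
  refine kill D (by simp only [IsSporadicGroup, hs, true_or, or_true]) (NotCT.Orders.m11 hs) ?_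
  obtain rfl : t = 11 := by omega
  norm_num

theorem row_m12 (D : DatSq Ω T t T₂) (hs : Spor.IsoM12 ↥T) (h : t + 1 = 12) : False := by
  refine kill D (by simp only [IsSporadicGroup, hs, true_or, or_true]) (NotCT.Orders.m12 hs) ?_
  obtain rfl : t = 11 := by omega
  norm_num

theorem row_m22 (D : DatSq Ω T t T₂) (hs : Spor.IsoM22 ↥T) (h : t + 1 = 22) : False := by
  refine kill D (by simp only [IsSporadicGroup, hs, true_or, or_true]) (NotCT.Orders.m22 hs) ?_
  obtain rfl : t = 21 := by omega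
  norm_num

theorem row_m23 (D : DatSq Ω T t T₂) (hs : Spor.IsoM23 ↥T) (h : t + 1 = 23) : False := by
  refine kill D (by simp only [IsSporadicGroup, hs, true_or, or_true]) (NotCT.Orders.m23 hs) ?_
  obtain rfl : t = 22 := by omega
  norm_num

theorem row_m24 (D : DatSq Ω T t T₂) (hs : Spor.IsoM24 ↥T) (h : t + 1 = 24) : False := by
  refine kill D (by simp only [IsSporadicGroup, hs, true_or, or_true]) (NotCT.Orders.m24 hs) ?_
  obtain rfl : t = 23 := by omega
  norm_num

theorem row_hs (D : DatSq Ω T t T₂) (hs : Spor.IsoHS ↥T) (h : t + 1 = 176) : False := by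
  refine kill D (by simp only [IsSporadicGroup, hs, true_or, or_true]) (NotCT.Orders.hs hs) ?_
  obtain rfl : t = 175 := by omega
  norm_num

theorem row_co3 (D : DatSq Ω T t T₂) (hs : Spor.IsoCo3 ↥T) (h : t + 1 = 276) : False := by
  refine kill D (by simp only [IsSporadicGroup, hs, true_or, or_true]) (NotCT.Orders.co3 hs) ?_
  obtain rfl : t = 275 := by omega
  norm_num

end Cfsg.Agent.H164.TabSq
end

-- part: H274/Tits/TabSqRows
section
/-!
# S3414, TABSQ: the dispatch over the list of the 2-transitive groups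
-/

set_option autoImplicit false
open Cfsg

namespace Cfsg.Agent.H274.Tits.Sq

open Cfsg.Agent.H384.TwoTrans Cfsg.Agent.H115.Tits Cfsg.Agent.H164.TabSq

universe u v

variable {G : Type u} {Ω : Type v} [Group G] [MulAction G Ω] {T : Subgroup G} {t T₂ : ℕ}

/-- **the rows** -/
theorem rowSq (D : DatSq Ω T t T₂) (hK : Known2 ↥T (Nat.card Ω)) : RowSq ↥T t := by
  have hΩ := D.hΩ
  obtain ⟨N, hN⟩ : ∃ N, N = Nat.card Ω := ⟨_, rfl⟩
  rw [← hN] at hK hΩ
  cases hK with
  | psl F d _ hd hd2 e hn =>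
    obtain ⟨e⟩ := e
    rw [hΩ] at hn
    exact row_psl D F hd hd2 e hn
  | sp F m _ hF hm e hn =>
    obtain ⟨e⟩ := e
    rw [hΩ] at hn
    exact (Cfsg.Agent.H523.KA.RowSp.row_sp D hF hm e hn).elim
  | psu F q _ hq hF e hn =>
    obtain ⟨e⟩ := e
    rw [hΩ] at hn
    exact (row_psu D F hq hF e hn).elim
  | sz F m _ hm hF e hn =>
    obtain ⟨e⟩ := e
    rw [hΩ] at hn
    exact (row_sz D F hm hF e hn).elim
  | ree K m _ hm hK e hn =>
    obtain ⟨e⟩ := e
    rw [hΩ] at hn
    exact (row_ree D K hm hK e hn).elim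
  | alt _ hn e =>
    obtain ⟨e⟩ := e
    exact row_alt D hn e hΩ.symm
  | psl2_8 F hF e =>
    obtain ⟨e⟩ := e
    exact (row_psl2_8 D hF e hΩ.symm).elim
  | psl2_9 F hF e =>
    obtain ⟨e⟩ := e
    exact row_psl2_9 D hF e hΩ.symm
  | psl2_11 F hF e =>
    obtain ⟨e⟩ := e
    exact (row_psl2_11 D hF e hΩ.symm).elim
  | psl4_2 F hF e =>
    obtain ⟨e⟩ := e
    exact row_psl4_2 D hF e hΩ.symm
  | a7 e =>
    obtain ⟨e⟩ := e
    exact (row_a7 D e hΩ.symm).elim
  | m11 h => exact (row_m11 D h hΩ.symm).elim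
  | m11' h => exact (row_m11' D h hΩ.symm).elim
  | m12 h => exact (row_m12 D h hΩ.symm).elim
  | m22 h => exact (row_m22 D h hΩ.symm).elim
  | m23 h => exact (row_m23 D h hΩ.symm).elim
  | m24 h => exact (row_m24 D h hΩ.symm).elim
  | hs h => exact (row_hs D h hΩ.symm).elim
  | co3 h => exact (row_co3 D h hΩ.symm).elim

/-- TABSQ from the list -/
theorem st_tabsq_of_known (hK : ∀ {G Ω : Type v} [Group G] [MulAction G Ω] {T : Subgroup G}, AS G Ω T →
    Known2 ↥T (Nat.card Ω)) : StTabSq.{v} :=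
  st_tabsq_of fun D => rowSq D (hK D.A)

end Cfsg.Agent.H274.Tits.Sq
end

-- part: H115/Tits/AsmFinal
section
/-!
# S3414, case (B): assembly of all pieces (helper115)

Open hypotheses: `StBAff` (helper263), `StPslSub3`, `StNo210`.
-/

set_option autoImplicit false

namespace Cfsg.Agent.H115.Tits

open Cfsg.Agent.H873.Tits Cfsg.Agent.H506.Tits Cfsg.Agent.H384.TwoTrans

universe u v

/-- **case (B) is impossible**, from the list of the 2-transitive groups and the open pieces -/
theorem st_bfalse_of' (hK : ∀ {G Ω : Type v} [Group G] [MulAction G Ω] {T : Subgroup G}, AS G Ω T → Known2 ↥T (Nat.card Ω))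
    (h1a : StTab1a.{v}) (h2 : StTab2.{v}) (h3354 : StLA.{v}) (hAff : Cfsg.Agent.H506.Tits.StBAff.{u, v})
    (hSub : StPslSub3.{v}) (h210 : StNo210.{v}) : StBFalse.{u, v} :=
  have hTab : StTabSq.{v} := Cfsg.Agent.H274.Tits.Sq.st_tabsq_of_known hK
  have hNum : StPslNum.{v} := Cfsg.Agent.H274.Tits.PN.st_pslnum
  st_bfalse_of (st_b0 hTab hNum hSub) hAff (st_be1_of hTab hNum hSub h210) Cfsg.Agent.H272.TP.st_bas
    (st_bpsl Cfsg.Agent.H270.Tits.st_psl_semi hNum hSub)
    (Cfsg.Agent.H803.BP.st_brk_of hK h2 Cfsg.Agent.H592.T4.st_bs5) h1a h3354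

end Cfsg.Agent.H115.Tits
end
end
end
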